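import Groth.Agent.Etbc.H188.ZDBase
import Groth.Agent.Etrest.HConstIso
import Groth.Prelude.Def_EtAcyc

/-!
# Geometric fibres and base change

* `isAcyclicSchemeN_of_iso`: invariance of `n`-acyclicity of schemes under isomorphism.
* `geomFibresAcyclicN_of_isPullback`: `GeomFibresAcyclicN` is stable under base change along morphisms with algebraic
  residue field extensions (weakly étale, integral, quasi-finite, ...).
* `geomFibresAcyclicN_mono`, `surjective_of_geomFibres`.
-/

set_option autoImplicit false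
universe u
open CategoryTheory CategoryTheory.Limits AlgebraicGeometry Opposite
open Groth.Agent.Etbc.H188.ZDBase

namespace Groth.Agent.Etbc.H189.FibBC

theorem isAcyclicSchemeN_of_iso {L : Set ℕ} {n : ℕ} {X Y : Scheme.{u}} (e : X ≅ Y)
    (h : EtAcyc.IsAcyclicSchemeN L n X) : EtAcyc.IsAcyclicSchemeN L n Y := by
  obtain ⟨h1, h2, h3⟩ := h
  have hom : X ≃ₜ Y := Scheme.homeoOfIso e
  refine ⟨⟨hom h1.some⟩, hom.surjective.connectedSpace hom.continuous, fun l hl hlL q hq1 hqn => ?_⟩
  obtain ⟨a⟩ := Groth.Agent.Etrest.HConstIso.nonempty_HConst e (ZMod l) q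
  have := h3 l hl hlL q hq1 hqn
  exact a.toEquiv.subsingleton

theorem isAcyclicSchemeN_mono {L : Set ℕ} {m n : ℕ} (hmn : m ≤ n) {X : Scheme.{u}}
    (h : EtAcyc.IsAcyclicSchemeN L n X) : EtAcyc.IsAcyclicSchemeN L m X :=
  ⟨h.1, h.2.1, fun l hl hlL q h1 h2 => h.2.2 l hl hlL q h1 (h2.trans hmn)⟩

theorem geomFibresAcyclicN_mono {L : Set ℕ} {m n : ℕ} (hmn : m ≤ n) {X Y : Scheme.{u}}
    {g : X ⟶ Y} (h : EtAcyc.GeomFibresAcyclicN L n g) : EtAcyc.GeomFibresAcyclicN L m g :=
  fun y Ω _ _ _ _ => isAcyclicSchemeN_mono hmn (h y Ω)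

/-- Composition of an algebraic geometric point with a morphism with algebraic residue extensions. -/
theorem exists_geomPt {Y Y' : Scheme.{u}} (b : Y' ⟶ Y) (hb : AlgRes b) (y' : Y') (Ω : Type u)
    [Field Ω] [Algebra (Y'.residueField y') Ω] [Algebra.IsAlgebraic (Y'.residueField y') Ω] :
    ∃ (a : Algebra (Y.residueField (b y')) Ω), @Algebra.IsAlgebraic (Y.residueField (b y')) Ω _ _ a ∧
      @EtAcyc.geomPt Y (b y') Ω _ a = EtAcyc.geomPt Y' y' Ω ≫ b := by
  let a : Algebra (Y.residueField (b y')) Ω :=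
    ((algebraMap (Y'.residueField y') Ω).comp (b.residueFieldMap y').hom).toAlgebra
  refine ⟨a, ?_, ?_⟩
  · exact (hb y').comp ((algF_algebraMap (Y'.residueField y') Ω).2 inferInstance)
  · have h1 := b.SpecMap_residueFieldMap_fromSpecResidueField y'
    change Spec.map (CommRingCat.ofHom ((algebraMap (Y'.residueField y') Ω).comp
      (b.residueFieldMap y').hom)) ≫ Y.fromSpecResidueField (b y') = _
    rw [Category.assoc, ← h1, ← Category.assoc]
    congr 1
    exact Spec.map_comp _ _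

/-- Base change along morphisms with algebraic residue field extensions. -/
theorem geomFibresAcyclicN_of_isPullback {L : Set ℕ} {n : ℕ} {X Y X' Y' : Scheme.{u}} {g : X ⟶ Y}
    {a : X' ⟶ X} {g' : X' ⟶ Y'} {b : Y' ⟶ Y} (sq : IsPullback a g' g b) (hb : AlgRes b)
    (h : EtAcyc.GeomFibresAcyclicN L n g) : EtAcyc.GeomFibresAcyclicN L n g' := by
  intro y' Ω _ _ _ _
  obtain ⟨al, halg, hpt⟩ := exists_geomPt b hb y' Ω
  have h1 := h (b y') Ω
  have h2 : IsPullback (pullback.fst g' (EtAcyc.geomPt Y' y' Ω) ≫ a)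
      (pullback.snd g' (EtAcyc.geomPt Y' y' Ω)) g (EtAcyc.geomPt Y' y' Ω ≫ b) :=
    (IsPullback.of_hasPullback g' (EtAcyc.geomPt Y' y' Ω)).paste_horiz sq
  rw [← hpt] at h2
  exact isAcyclicSchemeN_of_iso h2.isoPullback.symm h1

/-- A morphism with nonempty geometric fibres is surjective. -/
theorem surjective_of_geomFibres {L : Set ℕ} {n : ℕ} {X Y : Scheme.{u}} {g : X ⟶ Y}
    (h : EtAcyc.GeomFibresAcyclicN L n g) : Function.Surjective g.base := by
  intro y
  obtain ⟨⟨x⟩, -, -⟩ := h y (AlgebraicClosure (Y.residueField y))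
  refine ⟨pullback.fst g _ x, ?_⟩
  have h1 : (pullback.fst g (EtAcyc.geomPt Y y (AlgebraicClosure (Y.residueField y))) ≫ g) x =
      (pullback.snd g (EtAcyc.geomPt Y y (AlgebraicClosure (Y.residueField y))) ≫
        EtAcyc.geomPt Y y (AlgebraicClosure (Y.residueField y))) x := by
    rw [pullback.condition]
  refine h1.trans ?_
  exact Scheme.fromSpecResidueField_apply y _

end Groth.Agent.Etbc.H189.FibBC
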