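import Groth.Agent.Etbc.H189.GeomComp
import Groth.Agent.Etrest.ConstBasic
import Groth.Agent.Etrest.HpullConst
import Groth.Agent.Etrest.SHPoint

/-!
# Algebraic geometric fibres of `n`-acyclic morphisms are `n`-acyclic schemes

`geomFibresAcyclicN`: `g : X ⟶ Y` quasi-compact quasi-separated, `n`-acyclic for `L`; then every geometric fibre of `g` at
an algebraic geometric point is an `n`-acyclic scheme for `L` (if `L` contains a prime).  No local acyclicity is needed.
-/

set_option autoImplicit false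
universe u
open CategoryTheory CategoryTheory.Limits AlgebraicGeometry Opposite Abelian
open scoped Groth.Agent.Etcore.EtInst
open Groth.Agent.Etcore.EtInst Groth.Agent.Etcore.HpullCalc
open Groth.Agent

namespace Groth.Agent.Etbc.H189.GeomFib

attribute [local instance] S0101.result

theorem primesIn_prime {L : Set ℕ} {l : ℕ} (hl : l.Prime) (h : l ∈ L) : EtAcyc.PrimesIn L l :=
  ⟨hl.pos, fun p hp hpl => by rwa [(Nat.prime_dvd_prime_iff_eq hp hl).1 hpl]⟩

theorem killedBy_of_iso {X : Scheme.{u}} {n : ℕ} {F G : EtCoh.Ab X} (e : F ≅ G)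
    (h : EtCoh.KilledBy n F) : EtCoh.KilledBy n G := by
  intro U s
  have h1 := h U (e.inv.hom.app (op U) s)
  have h2 : e.hom.hom.app (op U) (e.inv.hom.app (op U) s) = s := by
    have := congrArg (fun ψ => ψ.hom.app (op U) s) e.inv_hom_id
    exact this
  rw [← h2, ← map_nsmul, h1, map_zero]

theorem killedBy_pull_const {Z Y : Scheme.{u}} (z : Z ⟶ Y) (l : ℕ) :
    EtCoh.KilledBy l ((EtCoh.pull z).obj (EtCoh.const Y (ZMod l))) :=
  killedBy_of_iso (EtCore.pullConst z (ZMod l)).symm
    (Etrest.ConstBasic.killedBy_const Z (ZMod l) l fun m => by simp)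

/-- A scheme on which all locally constant functions with values in a nontrivial finite group are constant
is connected. -/
theorem connectedSpace_of_equiv (X : Scheme.{u}) {l : ℕ} (hl : l.Prime)
    (h : Nonempty (EtCoh.H X (EtCoh.const X (ZMod l)) 0 ≃+ ZMod l)) :
    Nonempty X ∧ ConnectedSpace X := by
  have : NeZero l := ⟨hl.ne_zero⟩
  have : Fact (1 < l) := ⟨hl.one_lt⟩
  have hb : Function.Bijective (LocallyConstant.const X : ULift.{u + 1} (ZMod l) → _) :=
    Etrest.HpullConst.bijective_const_of_equiv X (ZMod l) h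
  have hne : Nonempty X := by
    by_contra hn
    rw [not_nonempty_iff] at hn
    have h1 : (LocallyConstant.const X (ULift.up (0 : ZMod l)) : LocallyConstant X _) =
        LocallyConstant.const X (ULift.up (1 : ZMod l)) := LocallyConstant.ext fun x => hn.elim x
    exact zero_ne_one (congrArg ULift.down (hb.1 h1))
  refine ⟨hne, ?_⟩
  have hpre : PreconnectedSpace X := by
    rw [preconnectedSpace_iff_clopen]
    intro s hs
    classical
    obtain ⟨a, ha⟩ := hb.2 ((LocallyConstant.ofIsClopen (X := X) hs).map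
      (fun i : Fin 2 => ULift.up (i.val : ZMod l)))
    by_cases h0 : s = ∅
    · exact Or.inl h0
    · right
      obtain ⟨x, hx⟩ := Set.nonempty_iff_ne_empty.2 h0
      ext y
      refine ⟨fun _ => trivial, fun _ => ?_⟩
      by_contra hy
      have e1 := DFunLike.congr_fun ha x
      have e2 := DFunLike.congr_fun ha y
      rw [LocallyConstant.coe_const] at e1 e2
      have e3 := e1.symm.trans e2
      simp [LocallyConstant.ofIsClopen, hx, hy] at e3
  exact { toNonempty := hne, isPreconnected_univ := hpre.isPreconnected_univ }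

variable {X Y : Scheme.{u}} (g : X ⟶ Y) [QuasiCompact g] [QuasiSeparated g] {L : Set ℕ} {n : ℕ}

/-- The geometric fibres of `n`-acyclic morphisms at algebraic geometric points are `n`-acyclic schemes. -/
theorem geomFibresAcyclicN (hL : ∃ ℓ ∈ L, ℓ.Prime) (hg : EtAcyc.IsAcyclicN g L n) :
    EtAcyc.GeomFibresAcyclicN L n g := by
  intro y Ω _ _ _ _
  have key : ∀ l : ℕ, l.Prime → l ∈ L → ∀ q : ℕ, q ≤ n →
      Nonempty (HH (Spec (CommRingCat.of Ω)) (EtCoh.const _ (ZMod l)) q ≃+
        HH (pullback g (EtAcyc.geomPt Y y Ω)) (EtCoh.const _ (ZMod l)) q) := by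
    intro l hl hlL q hq
    have h := (GeomComp.comp_geomPt g hg y Ω (EtCoh.const Y (ZMod l)) (primesIn_prime hl hlL)
      (fun z => killedBy_pull_const z l)).1 q hq
    exact ⟨((HHcongr (EtCore.pullConst (EtAcyc.geomPt Y y Ω) (ZMod l)) q).symm.trans
      (AddEquiv.ofBijective _ h)).trans (HHcongr ((EtCoh.pull (pullback.snd g _)).mapIso
        (EtCore.pullConst (EtAcyc.geomPt Y y Ω) (ZMod l)) ≪≫ EtCore.pullConst _ (ZMod l)) q)⟩
  obtain ⟨l₀, hl₀, hp₀⟩ := hL
  have hconn : Nonempty (pullback g (EtAcyc.geomPt Y y Ω) : Scheme.{u}) ∧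
      ConnectedSpace (pullback g (EtAcyc.geomPt Y y Ω) : Scheme.{u}) := by
    obtain ⟨e⟩ := key l₀ hp₀ hl₀ 0 (Nat.zero_le n)
    have : ConnectedSpace (Spec (CommRingCat.of Ω)) :=
      inferInstanceAs (ConnectedSpace (PrimeSpectrum Ω))
    obtain ⟨e₀⟩ := Etrest.SHPoint.nonempty_H0_const (Spec (CommRingCat.of Ω)) (ZMod l₀)
    exact connectedSpace_of_equiv _ hp₀ ⟨e.symm.trans e₀⟩
  refine ⟨hconn.1, hconn.2, fun l hl hlL q hq1 hqn => ?_⟩
  obtain ⟨e⟩ := key l hl hlL q hqn
  have := Etrest.SHPoint.subsingleton_H_of_sepClosed Ω (EtCoh.const _ (ZMod l)) q hq1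
  exact e.symm.toEquiv.subsingleton

end Groth.Agent.Etbc.H189.GeomFib
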