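import Groth.Agent.Etbc.H189.AlgSys
import Mathlib.AlgebraicGeometry.ResidueField
import Mathlib.RingTheory.Algebraic.Integral

/-!
# Algebraic geometric points and affine opens

For `y ∈ U`, `U` an affine open of `Y` and `Ω` an algebraic extension of the residue field of `y`, the map
`phi : Γ(Y, U) → Ω` satisfies `IntMul`, and the point `Spec Ω → Y` factors through `Spec Γ(Y, U)`.
-/

set_option autoImplicit false
universe u
open CategoryTheory CategoryTheory.Limits AlgebraicGeometry Opposite

namespace Groth.Agent.Etbc.H189.AlgPt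

/-- A ring homomorphism `A → κ → Ω` with `κ` consisting of fractions of elements of `A` and `Ω` algebraic
over `κ`. -/
theorem intMul_of_frac {A κ Ω : Type u} [CommRing A] [Field κ] [Field Ω] (ev : A →+* κ)
    (hev : ∀ z : κ, ∃ a b : A, ev b ≠ 0 ∧ ev b * z = ev a) [Algebra κ Ω]
    [Algebra.IsAlgebraic κ Ω] : AlgSys.IntMul ((algebraMap κ Ω).comp ev) := by
  intro x
  let R₀ : Subring κ := ev.range
  let _ : Algebra R₀ Ω := ((algebraMap κ Ω).comp R₀.subtype).toAlgebra
  have : IsScalarTower R₀ κ Ω := IsScalarTower.of_algebraMap_eq' rfl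
  have hfrac : IsFractionRing R₀ κ := by
    refine ⟨fun y => ?_, fun z => ?_, fun {y z} h => ?_⟩
    · apply isUnit_iff_ne_zero.2
      intro h0
      have h1 : (y : R₀) = 0 := Subtype.val_injective h0
      exact nonZeroDivisors.coe_ne_zero y h1
    · obtain ⟨a, b, hb, hab⟩ := hev z
      refine ⟨⟨⟨ev a, a, rfl⟩, ⟨⟨ev b, b, rfl⟩, mem_nonZeroDivisors_of_ne_zero fun h => hb ?_⟩⟩, ?_⟩
      · exact congrArg Subtype.val h
      · rw [mul_comm]; exact hab
    · exact ⟨1, by rw [Subtype.val_injective h]⟩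
  have halg : IsAlgebraic R₀ x :=
    (IsFractionRing.isAlgebraic_iff R₀ κ Ω).2 (Algebra.IsAlgebraic.isAlgebraic x)
  obtain ⟨⟨_, s, rfl⟩, hs, hint⟩ := halg.exists_integral_multiple
  refine ⟨s, ?_, ?_⟩
  · intro h0
    apply hs
    apply Subtype.val_injective
    exact (algebraMap κ Ω).injective (h0.trans (map_zero _).symm)
  · obtain ⟨P, hP, hx⟩ := hint
    let evr : A →+* R₀ := ev.rangeRestrict
    have hsurj : Function.Surjective evr := ev.rangeRestrict_surjective
    obtain ⟨Q, hQ, -, hQm⟩ := Polynomial.lifts_and_natDegree_eq_and_monic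
      (f := evr) (p := P) (Polynomial.map_surjective evr hsurj P) hP
    refine ⟨Q, hQm, ?_⟩
    rw [← hQ, Polynomial.eval₂_map] at hx
    exact hx

section Scheme

variable {Y : Scheme.{u}} {U : Y.Opens} (hU : IsAffineOpen U) (y : Y) (hy : y ∈ U)

include hU in
theorem exists_frac (z : Y.residueField y) :
    ∃ a b : Γ(Y, U), (Y.evaluation U y hy).hom b ≠ 0 ∧
      (Y.evaluation U y hy).hom b * z = (Y.evaluation U y hy).hom a := by
  obtain ⟨w, rfl⟩ := Scheme.residue_surjective Y y z
  let _ := Y.presheaf.algebra_section_stalk ⟨y, hy⟩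
  have := hU.isLocalization_stalk ⟨y, hy⟩
  obtain ⟨⟨a, b⟩, hab⟩ := IsLocalization.surj (hU.primeIdealOf ⟨y, hy⟩).asIdeal.primeCompl w
  refine ⟨a, b, ?_, ?_⟩
  · have hb : IsUnit (Y.presheaf.germ U y hy b.1) :=
      IsLocalization.map_units (Y.presheaf.stalk y) b
    have h1 : IsUnit ((Y.residue y).hom (Y.presheaf.germ U y hy b.1)) := hb.map _
    exact h1.ne_zero
  · have h2 := congrArg (Y.residue y).hom hab
    rw [map_mul, mul_comm] at h2
    exact h2

variable (Ω : Type u) [Field Ω] [Algebra (Y.residueField y) Ω]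

/-- the ring homomorphism `Γ(Y, U) → Ω` -/
noncomputable def phi : Γ(Y, U) →+* Ω :=
  (algebraMap (Y.residueField y) Ω).comp (Y.evaluation U y hy).hom

include hU in
theorem intMul_phi [Algebra.IsAlgebraic (Y.residueField y) Ω] :
    AlgSys.IntMul (phi y hy Ω) :=
  intMul_of_frac (Y.evaluation U y hy).hom (exists_frac hU y hy)

theorem spec_phi_fromSpec : Spec.map (CommRingCat.ofHom (phi y hy Ω)) ≫ hU.fromSpec =
    Spec.map (CommRingCat.ofHom (algebraMap (Y.residueField y) Ω)) ≫ Y.fromSpecResidueField y := by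
  have h1 : CommRingCat.ofHom (phi y hy Ω) = Y.presheaf.germ U y hy ≫ Y.residue y ≫
      CommRingCat.ofHom (algebraMap (Y.residueField y) Ω) := by
    rw [← Category.assoc, Scheme.germ_residue]
    rfl
  rw [h1, Spec.map_comp, Spec.map_comp, Category.assoc, Category.assoc, Scheme.fromSpecResidueField,
    ← hU.fromSpecStalk_eq_fromSpecStalk hy, IsAffineOpen.fromSpecStalk]
  rfl

end Scheme

end Groth.Agent.Etbc.H189.AlgPt
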