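import Groth.Agent.Etcore.PullbackLim
import Groth.Agent.Etcore.FGLim
import Mathlib.RingTheory.IntegralClosure.IntegrallyClosed
import Mathlib.RingTheory.Localization.Away.Basic
import Mathlib.RingTheory.Localization.Integral
import Mathlib.AlgebraicGeometry.Morphisms.Integral

/-!
# A field algebraic over the residue field of a prime as a union of integral extensions of localizations

`φ : A →+* Ω` a ring homomorphism to a field such that every `x : Ω` has a multiple `φ s * x`, `φ s ≠ 0`, which is
integral over `A` (`IntMul φ`).  For `s : A` with `φ s ≠ 0` let `Cs φ s ⊆ Ω` be the integral closure of `A_s`.  Then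
`Ω = ⋃ Cs φ s`, so that `Spec Ω = lim Spec (Cs φ s)` with `Spec (Cs φ s) → Spec A_s` integral.
-/

set_option autoImplicit false
universe u
open CategoryTheory CategoryTheory.Limits AlgebraicGeometry Opposite

namespace Groth.Agent.Etbc.H189.AlgSys

variable {A Ω : Type u} [CommRing A] [Field Ω] (φ : A →+* Ω)

/-- Every element of `Ω` has a nonzero multiple by an element of `A` which is integral over `A`. -/
def IntMul : Prop := ∀ x : Ω, ∃ s : A, φ s ≠ 0 ∧ φ.IsIntegralElem (φ s * x)

/-- the index set: elements of `A` outside the kernel, ordered by divisibility. -/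
def Idx : Type u := {s : A // φ s ≠ 0}

instance : Preorder (Idx φ) where
  le s t := s.1 ∣ t.1
  le_refl s := dvd_refl _
  le_trans _ _ _ h h' := dvd_trans h h'

theorem le_def {s t : Idx φ} : s ≤ t ↔ s.1 ∣ t.1 := Iff.rfl

instance : Nonempty (Idx φ) := ⟨⟨1, by rw [map_one]; exact one_ne_zero⟩⟩

instance : IsDirected (Idx φ) (· ≤ ·) where
  directed s t := ⟨⟨s.1 * t.1, by rw [map_mul]; exact mul_ne_zero s.2 t.2⟩,
    dvd_mul_right _ _, dvd_mul_left _ _⟩

/-- the map `A_s → Ω`. -/
noncomputable def psi (s : Idx φ) : Localization.Away s.1 →+* Ω :=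
  IsLocalization.Away.lift s.1 (g := φ) (isUnit_iff_ne_zero.2 s.2)

theorem psi_comp (s : Idx φ) : (psi φ s).comp (algebraMap A (Localization.Away s.1)) = φ :=
  IsLocalization.Away.lift_comp s.1 _

theorem psi_algebraMap (s : Idx φ) (a : A) : psi φ s (algebraMap A (Localization.Away s.1) a) = φ a :=
  IsLocalization.Away.lift_eq s.1 _ a

/-- integrality and composition -/
theorem isIntegralElem_of_comp {R S T : Type*} [CommRing R] [CommRing S] [CommRing T] (f : R →+* S)
    (g : S →+* T) {x : T} (h : (g.comp f).IsIntegralElem x) : g.IsIntegralElem x := by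
  obtain ⟨P, hP, hx⟩ := h
  exact ⟨P.map f, hP.map f, by rw [Polynomial.eval₂_map]; exact hx⟩

theorem psi_mono {s t : Idx φ} (h : s ≤ t) {x : Ω} (hx : (psi φ s).IsIntegralElem x) :
    (psi φ t).IsIntegralElem x := by
  obtain ⟨c, hc⟩ := h
  have hu : IsUnit (algebraMap A (Localization.Away t.1) s.1) := by
    have h1 : IsUnit (algebraMap A (Localization.Away t.1) t.1) :=
      IsLocalization.Away.algebraMap_isUnit t.1
    have h2 : algebraMap A (Localization.Away t.1) t.1 =
        algebraMap A (Localization.Away t.1) s.1 * algebraMap A (Localization.Away t.1) c := by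
      rw [← map_mul, ← hc]
    rw [h2] at h1
    exact isUnit_of_mul_isUnit_left h1
  let m : Localization.Away s.1 →+* Localization.Away t.1 :=
    IsLocalization.Away.lift s.1 (g := algebraMap A (Localization.Away t.1)) hu
  have hm : (psi φ t).comp m = psi φ s := by
    apply IsLocalization.ringHom_ext (Submonoid.powers s.1)
    rw [RingHom.comp_assoc]
    have : m.comp (algebraMap A (Localization.Away s.1)) = algebraMap A (Localization.Away t.1) :=
      IsLocalization.Away.lift_comp s.1 hu
    rw [this, psi_comp, psi_comp]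
  rw [← hm] at hx
  exact isIntegralElem_of_comp m (psi φ t) hx

/-- the integral closure of `A_s` in `Ω`. -/
def Cs (s : Idx φ) : Subring Ω where
  carrier := {x | (psi φ s).IsIntegralElem x}
  zero_mem' := RingHom.isIntegralElem_zero _
  one_mem' := RingHom.isIntegralElem_one _
  add_mem' := fun hx hy => RingHom.IsIntegralElem.add _ hx hy
  mul_mem' := fun hx hy => RingHom.IsIntegralElem.mul _ hx hy
  neg_mem' := fun hx => RingHom.IsIntegralElem.neg _ hx

theorem mem_Cs {s : Idx φ} {x : Ω} : x ∈ Cs φ s ↔ (psi φ s).IsIntegralElem x := Iff.rfl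

theorem Cs_mono {s t : Idx φ} (h : s ≤ t) : Cs φ s ≤ Cs φ t := fun _ hx => psi_mono φ h hx

theorem exists_mem_Cs (h : IntMul φ) (x : Ω) : ∃ s : Idx φ, x ∈ Cs φ s := by
  obtain ⟨s, hs, hx⟩ := h x
  let s' : Idx φ := ⟨s, hs⟩
  refine ⟨s', ?_⟩
  have h1 : (psi φ s').IsIntegralElem (φ s * x) :=
    isIntegralElem_of_comp (algebraMap A (Localization.Away s)) (psi φ s') (by
      have := psi_comp φ s'
      rw [this]
      exact hx)
  have h2 : (psi φ s').IsIntegralElem (psi φ s' (IsLocalization.Away.invSelf s)) :=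
    RingHom.isIntegralElem_map _
  have h3 : psi φ s' (IsLocalization.Away.invSelf s) * (φ s * x) = x := by
    rw [← mul_assoc, ← psi_algebraMap φ s' s, ← map_mul, mul_comm (IsLocalization.Away.invSelf s),
      IsLocalization.Away.mul_invSelf, map_one, one_mul]
  have h4 := RingHom.IsIntegralElem.mul _ h2 h1
  rw [h3] at h4
  exact h4

/-- the structure map `A_s → Cs`. -/
noncomputable def toCs (s : Idx φ) : Localization.Away s.1 →+* Cs φ s :=
  (psi φ s).codRestrict (Cs φ s) (fun _ => RingHom.isIntegralElem_map (psi φ s))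

theorem subtype_toCs (s : Idx φ) : (Cs φ s).subtype.comp (toCs φ s) = psi φ s := rfl

theorem isIntegral_toCs (s : Idx φ) : (toCs φ s).IsIntegral := by
  rintro ⟨x, P, hP, hx⟩
  refine ⟨P, hP, ?_⟩
  apply Subtype.val_injective
  have := Polynomial.hom_eval₂ P (toCs φ s) (Cs φ s).subtype ⟨x, P, hP, hx⟩
  refine this.trans ?_
  rw [subtype_toCs]
  exact hx

/-- The directed system of the rings `Cs`. -/
noncomputable def sysR : Idx φ ⥤ CommRingCat.{u} where
  obj s := CommRingCat.of (Cs φ s)
  map h := CommRingCat.ofHom (Subring.inclusion (Cs_mono φ (leOfHom h)))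
  map_id _ := rfl
  map_comp _ _ := rfl

/-- The cocone with point `Ω`. -/
noncomputable def coc : Cocone (sysR φ) where
  pt := CommRingCat.of Ω
  ι := { app := fun s => CommRingCat.ofHom (Cs φ s).subtype
         naturality := fun _ _ _ => rfl }

theorem nonempty_isColimit (h : IntMul φ) : Nonempty (IsColimit (coc φ)) := by
  refine Etcore.FGLim.nonempty_isColimit (sysR φ) (coc φ) ?_ ?_
  · intro x
    obtain ⟨s, hs⟩ := exists_mem_Cs φ h x
    exact ⟨s, (⟨x, hs⟩ : Cs φ s), rfl⟩
  · intro s y z hyz
    have : y = z := Subtype.val_injective hyz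
    exact ⟨s, 𝟙 s, by rw [this]⟩

end Groth.Agent.Etbc.H189.AlgSys
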