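import Groth.Agent.Etbc.H189.FibBC
import Groth.Agent.Etbc.H189.GeomFib
import Groth.Agent.Etbc.H198.WeBC
import Groth.Agent.Etbc.H228.AcycIff

/-!
# S3471: assembly

`Hloc g L n`: the hypothesis on strict localizations used by the core comparison theorem.
`mp`: locally `n`-acyclic morphisms have `n`-acyclic geometric fibres of strict localizations.
`mpr`: the converse, from the core comparison theorem.
-/

set_option autoImplicit false
universe u
open CategoryTheory CategoryTheory.Limits AlgebraicGeometry Opposite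
open Groth.Agent.Etbc.H188.ZDBase Groth.Agent.Etbc.H198 Groth.Agent.Etrest.StrictLoc
open Groth.Agent.Etrest.VCBaseChange Groth.Agent.Sga1.UlaSL

namespace Groth.Agent.Etbc.H189.Assembly

variable {X Y : Scheme.{u}}

/-- The hypothesis on strict localizations in the core theorem. -/
def Hloc (g : X ⟶ Y) (L : Set ℕ) : ℕ → Prop
  | 0 => EtAcyc.OnStrictLocalizations g (fun _ _ h => Function.Surjective h.base)
  | m + 1 => EtAcyc.OnStrictLocalizations g (fun _ _ h => EtAcyc.GeomFibresAcyclicN L m h)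

theorem onSL_mono {g : X ⟶ Y} {P Q : ∀ ⦃X' Y' : Scheme.{u}⦄, (X' ⟶ Y') → Prop}
    (hPQ : ∀ ⦃X' Y' : Scheme.{u}⦄ (h : X' ⟶ Y'), P h → Q h)
    (h : EtAcyc.OnStrictLocalizations g P) : EtAcyc.OnStrictLocalizations g Q :=
  fun x RY RX _ _ _ _ _ _ _ _ _ _ _ _ hc => hPQ _ (h x RY RX hc)

theorem hloc_of_geomFibres {g : X ⟶ Y} {L : Set ℕ} {n : ℕ}
    (h : EtAcyc.OnStrictLocalizations g (fun _ _ h => EtAcyc.GeomFibresAcyclicN L n h)) :
    Hloc g L n := by
  cases n with
  | zero => exact onSL_mono (fun _ _ _ hh => FibBC.surjective_of_geomFibres hh) h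
  | succ m => exact onSL_mono (fun _ _ _ hh => FibBC.geomFibresAcyclicN_mono (Nat.le_succ m) hh) h

/-- `(⇒)` -/
theorem mp (g : X ⟶ Y) {L : Set ℕ} (hL : ∃ ℓ ∈ L, ℓ.Prime) {n : ℕ}
    (h : EtAcyc.IsLocAcyclicN g L n) :
    EtAcyc.OnStrictLocalizations g (fun _ _ h => EtAcyc.GeomFibresAcyclicN L n h) :=
  fun x RY RX _ _ _ _ _ _ _ _ _ _ _ _ hc =>
    GeomFib.geomFibresAcyclicN (Spec.map (CommRingCat.ofHom (algebraMap RY RX))) hL (h x RY RX hc)

/-- The statement of the core comparison theorem. -/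
def Core (L : Set ℕ) (n : ℕ) : Prop :=
  ∀ ⦃X Y : Scheme.{u}⦄ (g : X ⟶ Y) [QuasiCompact g] [QuasiSeparated g] [IsAffine Y],
    EtAcyc.GeomFibresAcyclicN L n g → Hloc g L n → EtAcyc.CompN g L n

/-- From the core theorem to `n`-acyclicity. -/
theorem isAcyclicN_of_core {L : Set ℕ} {n : ℕ} (core : Core.{u} L n) (g : X ⟶ Y) [QuasiCompact g]
    [QuasiSeparated g] (hfib : EtAcyc.GeomFibresAcyclicN L n g)
    (hloc : EtAcyc.OnStrictLocalizations g (fun _ _ h => EtAcyc.GeomFibresAcyclicN L n h)) :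
    EtAcyc.IsAcyclicN g L n := by
  refine H228.AcycIff.isAcyclicN_of_affine fun V hV => ?_
  have sq : IsPullback (pullback.snd V.hom g) (EtAcyc.prj g V) g V.hom :=
    (IsPullback.of_hasPullback V.hom g).flip
  have : Etale V.hom := V.prop
  have : WeaklyEtale V.hom := inferInstance
  refine core (EtAcyc.prj g V) ?_ (hloc_of_geomFibres ?_)
  · exact FibBC.geomFibresAcyclicN_of_isPullback sq (algRes_of_weaklyEtale V.hom) hfib
  · exact WeBC.of_weaklyEtale hloc _ _ _ sq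

/-- `(⇐)` -/
theorem mpr {L : Set ℕ} {n : ℕ} (core : Core.{u} L n) (g : X ⟶ Y)
    (h : EtAcyc.OnStrictLocalizations g (fun _ _ h => EtAcyc.GeomFibresAcyclicN L n h)) :
    EtAcyc.IsLocAcyclicN g L n := by
  intro x RY RX _ _ _ _ _ _ hRY _ _ hRX _ _ hc
  refine isAcyclicN_of_core core (Spec.map (CommRingCat.ofHom (algebraMap RY RX))) (h x RY RX hc) ?_
  have hσ := isStrictLoc_specOf Y (g x) RY
  have hξ := isStrictLoc_specOf X x RX
  have := weaklyEtale_of_isStrictLoc hσ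
  have := weaklyEtale_of_isStrictLoc hξ
  exact WeBC.of_weaklyEtale_sq h _ _ _ ((specOf_comm g x RY RX (algebraMap RY RX)).1 hc).symm

theorem main {L : Set ℕ} {n : ℕ} (core : Core.{u} L n) (hL : ∃ ℓ ∈ L, ℓ.Prime) (g : X ⟶ Y) :
    EtAcyc.IsLocAcyclicN g L n ↔
      EtAcyc.OnStrictLocalizations g (fun _ _ h => EtAcyc.GeomFibresAcyclicN L n h) :=
  ⟨mp g hL, mpr core g⟩

end Groth.Agent.Etbc.H189.Assembly
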