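import Groth.Agent.Etbc.H188.ZDBase
import Groth.Agent.Etbc.H194.Edge
import Groth.Agent.Etbc.H228.AcycIff
import Groth.Agent.Etcore.FieldDesc621
import Groth.Agent.EtpbcB.TorsEtN

/-!
# The last step of the core comparison theorem

Let `r : P ⟶ Y` be affine and surjective with `P` zero-dimensional (`IsZD`), `gP : XP ⟶ P` the base change of
`g : X ⟶ Y`.  If the comparison form holds for `gP` and base change holds for `r_*` along `g` (in degrees `≤ n - 1`) for
all `L`-torsion sheaves on `P`, then `CompN g L n`.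

* `devissage`: five lemma induction from sheaves `F₀ ⊇ F` for which the comparison holds.
* `edg_square`: compatibility of the edge maps with `baseChange0`.
* `compN_of_bc`: the main statement.
-/

set_option autoImplicit false
universe u
open CategoryTheory CategoryTheory.Limits AlgebraicGeometry Opposite Abelian
open scoped Groth.Agent.Etcore.EtInst
open Groth.Agent.Etcore Groth.Agent.Etcore.EtInst Groth.Agent.Etcore.HpullCalc
open Groth.Agent.Etcore.HQ Groth.Agent.Etcore.RpushLoc Groth.Agent.Etbc.H194.Edge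
open Groth.Agent.Etbc.H188.ZDBase

namespace Groth.Agent.Etbc.H189.CoreDev

attribute [local instance] pfl

section Devissage

variable {X Y : Scheme.{u}} (g : X ⟶ Y) (C : EtCoh.Ab Y → Prop)

theorem devissage_aux (n : ℕ)
    (h : ∀ F, C F → ∃ (F₀ : EtCoh.Ab Y) (i : F ⟶ F₀) (_ : Mono i), C (cokernel i) ∧
      (∀ q, q ≤ n → Function.Bijective (hp g F₀ q)) ∧ Function.Injective (hp g F₀ (n + 1))) (m : ℕ) :
    m ≤ n + 1 → ∀ F, C F → (∀ q, q < m → Function.Bijective (hp g F q)) ∧
      Function.Injective (hp g F m) := by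
  induction m with
  | zero =>
    intro _ F hF
    obtain ⟨F₀, i, hi, -, hb, -⟩ := h F hF
    have hS : (ShortComplex.mk i (cokernel.π i) (cokernel.condition i)).ShortExact :=
      { exact := ShortComplex.exact_cokernel i }
    exact ⟨fun q hq => absurd hq (Nat.not_lt_zero q),
      ExtMap.injective₁_zero (EtCoh.pull g) (EtCore.pullConst g ℤ).inv hS (hb 0 (Nat.zero_le _)).1⟩
  | succ m ih =>
    intro hm
    have ih' := ih (by omega)
    have hsurj : ∀ F, C F → Function.Surjective (hp g F m) := by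
      intro F hF
      obtain ⟨F₀, i, hi, hC, hb, -⟩ := h F hF
      have hS : (ShortComplex.mk i (cokernel.π i) (cokernel.condition i)).ShortExact :=
        { exact := ShortComplex.exact_cokernel i }
      rcases m with _ | k
      · exact ExtMap.surjective₁_zero (EtCoh.pull g) (EtCore.pullConst g ℤ).inv hS
          (hb 0 (Nat.zero_le _)).2 (ih' _ hC).2
      · exact ExtMap.surjective₁ (EtCoh.pull g) (EtCore.pullConst g ℤ).inv hS (rfl : k + 1 = k + 1)
          ((ih' _ hC).1 k (Nat.lt_succ_self k)).2 (hb (k + 1) (by omega)).2 (ih' _ hC).2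
    intro F hF
    refine ⟨fun q hq => ?_, ?_⟩
    · rcases Nat.lt_succ_iff_lt_or_eq.1 hq with h1 | h1
      · exact (ih' F hF).1 q h1
      · subst h1
        exact ⟨(ih' F hF).2, hsurj F hF⟩
    · obtain ⟨F₀, i, hi, hC, hb, hb'⟩ := h F hF
      have hS : (ShortComplex.mk i (cokernel.π i) (cokernel.condition i)).ShortExact :=
        { exact := ShortComplex.exact_cokernel i }
      have h3 : Function.Injective (hp g F₀ (m + 1)) := by
        rcases Nat.lt_or_ge m n with h1 | h1
        · exact (hb (m + 1) h1).1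
        · obtain rfl : m = n := by omega
          exact hb'
      exact ExtMap.injective₁ (EtCoh.pull g) (EtCore.pullConst g ℤ).inv hS (rfl : m + 1 = m + 1)
        (hb m (by omega)).2 (ih' _ hC).2 h3

/-- **Dévissage.** -/
theorem devissage (n : ℕ)
    (h : ∀ F, C F → ∃ (F₀ : EtCoh.Ab Y) (i : F ⟶ F₀) (_ : Mono i), C (cokernel i) ∧
      (∀ q, q ≤ n → Function.Bijective (hp g F₀ q)) ∧ Function.Injective (hp g F₀ (n + 1)))
    (F : EtCoh.Ab Y) (hF : C F) : (∀ q, q ≤ n → Function.Bijective (hp g F q)) ∧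
      Function.Injective (hp g F (n + 1)) := by
  obtain ⟨h1, h2⟩ := devissage_aux g C n h (n + 1) le_rfl F hF
  exact ⟨fun q hq => h1 q (Nat.lt_succ_of_le hq), h2⟩

end Devissage

section ZD

variable {P Y : Scheme.{u}}

theorem isAffine_pullback {V : Scheme.{u}} (q : V ⟶ Y) (r : P ⟶ Y) [IsAffine V] [IsAffineHom r] :
    IsAffine (pullback q r) :=
  isAffine_of_isAffineHom (pullback.fst q r)

/-- Classes of positive degree vanish étale locally on `Y`, for `P` zero-dimensional. -/
theorem locZero_of_isZD (hP : IsZD P) (r : P ⟶ Y) [IsAffineHom r] (E : EtCoh.Ab P) (q : ℕ)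
    (hq : 1 ≤ q) : LocZero r E q := by
  intro V ξ v
  obtain ⟨V', k, hV', -, v', hv'⟩ := Etrest.Site0.exists_affine V v
  refine ⟨V', k, v', hv', ?_⟩
  have h1 : IsAffine ((EtCoh.bc r).obj V').left := by
    exact @isAffine_pullback _ _ V'.left V'.hom r hV' _
  have h2 : IsZD ((EtCoh.bc r).obj V').left := hP.of_weaklyEtale (pr r V')
  exact (h2.subsingleton_H _ q hq).elim _ _

theorem bijective_edg_of_isZD (hP : IsZD P) (r : P ⟶ Y) [IsAffineHom r] (E : EtCoh.Ab P) (n : ℕ) :
    Function.Bijective (edg r E n) :=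
  (edg_low r n E fun q hq _ => locZero_of_isZD hP r E q hq).1 n le_rfl

theorem eq_zero_push_of_isZD (hP : IsZD P) (r : P ⟶ Y) [IsAffineHom r] (E : EtCoh.Ab P) (n : ℕ)
    (hn : 1 ≤ n) (x : HH Y ((EtCoh.push r).obj E) n) : x = 0 :=
  (bijective_edg_of_isZD hP r E n).1 ((hP.subsingleton_H E n hn).elim _ _)

end ZD

section Square

variable {X Y P XP : Scheme.{u}} {g : X ⟶ Y} {r : P ⟶ Y} {r' : XP ⟶ X} {gP : XP ⟶ P}

theorem map_cmp_hp (w : gP ≫ r = r' ≫ g) (G : EtCoh.Ab Y) (n : ℕ) (x : HH Y G n) :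
    HHmap ((Etrest.DEtMate.cmp w).hom.app G) n (hp r' _ n (hp g G n x)) =
      hp gP _ n (hp r G n x) := by
  rw [FieldDesc621.cmp_app, HHmap_comp, map_pullComp_inv_hp, HHmap_comp, hp_comp gP r]
  congr 1
  have : ∀ {f f' : XP ⟶ Y} (e : f = f'), HHmap ((EtCore.pullCongr e).hom.app G) n (hp f G n x) =
      hp f' G n x := by
    intro f f' e
    subst e
    rw [pullCongr_rfl_hom_app, HHmap_id]
  exact this w.symm

/-- Compatibility of the edge maps with `baseChange0`. -/
theorem edg_square (w : gP ≫ r = r' ≫ g) (E : EtCoh.Ab P) (n : ℕ)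
    (x : HH Y ((EtCoh.push r).obj E) n) :
    edg r' ((EtCoh.pull gP).obj E) n (HHmap (EtCoh.baseChange0 r g r' gP w E) n (hp g _ n x)) =
      hp gP E n (edg r E n x) := by
  rw [edg_homEquiv, FieldDesc621.hbc w E, HHmap_comp, map_cmp_hp, edg_apply, hp_map]
  rfl

/-- The comparison for `r_* E`. -/
theorem hp_push (hP : IsZD P) [IsAffineHom r] (w : gP ≫ r = r' ≫ g) (E : EtCoh.Ab P) (n : ℕ)
    (h0 : Function.Bijective (hp gP E 0))
    (hf : ∀ q, 1 ≤ q → q ≤ n → ∀ y : HH XP ((EtCoh.pull gP).obj E) q, y = 0)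
    (hmono : Mono (EtCoh.baseChange0 r g r' gP w E))
    (hiso : 1 ≤ n → IsIso (EtCoh.baseChange0 r g r' gP w E))
    (hR : ∀ q, 1 ≤ q → q + 1 ≤ n → IsZero ((EtCoh.Rpush r' q).obj ((EtCoh.pull gP).obj E))) :
    (∀ q, q ≤ n → Function.Bijective (hp g ((EtCoh.push r).obj E) q)) ∧
      Function.Injective (hp g ((EtCoh.push r).obj E) (n + 1)) := by
  refine ⟨fun q hq => ?_, fun a b _ => ?_⟩
  · rcases Nat.eq_zero_or_pos q with rfl | hq1
    · have h1 : Function.Bijective (fun x : HH Y ((EtCoh.push r).obj E) 0 =>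
          edg r' ((EtCoh.pull gP).obj E) 0 (HHmap (EtCoh.baseChange0 r g r' gP w E) 0 (hp g _ 0 x))) := by
        have e : (fun x : HH Y ((EtCoh.push r).obj E) 0 =>
          edg r' ((EtCoh.pull gP).obj E) 0 (HHmap (EtCoh.baseChange0 r g r' gP w E) 0 (hp g _ 0 x))) =
          (hp gP E 0) ∘ (edg r E 0) := funext fun x => edg_square w E 0 x
        rw [e]
        exact h0.comp (edg_zero_bijective r E)
      have h2 : Function.Injective (fun y : HH X ((EtCoh.pull g).obj ((EtCoh.push r).obj E)) 0 =>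
          edg r' ((EtCoh.pull gP).obj E) 0 (HHmap (EtCoh.baseChange0 r g r' gP w E) 0 y)) :=
        (edg_zero_bijective r' _).1.comp (HHmap_injective_of_mono _)
      refine ⟨fun a b hab => h1.1 (by dsimp only; rw [hab]), fun y => ?_⟩
      obtain ⟨x, hx⟩ := h1.2 (edg r' ((EtCoh.pull gP).obj E) 0
        (HHmap (EtCoh.baseChange0 r g r' gP w E) 0 y))
      exact ⟨x, h2 hx⟩
    · obtain ⟨m, rfl⟩ : ∃ m, q = m + 1 := ⟨q - 1, by omega⟩
      have hi := hiso (by omega)
      have h2 : Function.Injective (edg r' ((EtCoh.pull gP).obj E) (m + 1)) :=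
        (edg_low r' m _ fun i hi1 him => by
          obtain ⟨j, rfl⟩ : ∃ j, i = j + 1 := ⟨i - 1, by omega⟩
          exact (isZero_Rpush_iff r' _ j).1 (hR (j + 1) hi1 (by omega))).2
      have h3 : ∀ y : HH X ((EtCoh.pull g).obj ((EtCoh.push r).obj E)) (m + 1), y = 0 := by
        intro y
        apply (HHmap_bijective (EtCoh.baseChange0 r g r' gP w E) (m + 1)).1
        apply h2
        rw [map_zero, map_zero]
        exact hf (m + 1) hq1 hq _
      exact ⟨fun a b _ => (eq_zero_push_of_isZD hP r E _ hq1 a).trans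
        (eq_zero_push_of_isZD hP r E _ hq1 b).symm, fun y => ⟨0, (h3 _).trans (h3 y).symm⟩⟩
  · exact (eq_zero_push_of_isZD hP r E _ (Nat.succ_pos n) a).trans
      (eq_zero_push_of_isZD hP r E _ (Nat.succ_pos n) b).symm

/-- **The last step of the core theorem.** -/
theorem compN_of_bc {L : Set ℕ} {n : ℕ} (hP : IsZD P) [IsAffineHom r] [Surjective r]
    (w : gP ≫ r = r' ≫ g)
    (hT : ∀ E, EtAcyc.IsLTorsion L E → EtAcyc.IsLTorsion L ((EtCoh.push r).obj E))
    (hform : EtAcyc.CompN gP L n)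
    (hmono : ∀ E, EtAcyc.IsLTorsion L E → Mono (EtCoh.baseChange0 r g r' gP w E))
    (hiso : 1 ≤ n → ∀ E, EtAcyc.IsLTorsion L E → IsIso (EtCoh.baseChange0 r g r' gP w E))
    (hR : ∀ E, EtAcyc.IsLTorsion L E → ∀ q, 1 ≤ q → q + 1 ≤ n →
      IsZero ((EtCoh.Rpush r' q).obj ((EtCoh.pull gP).obj E))) : EtAcyc.CompN g L n := by
  intro F hF _
  refine devissage g (EtAcyc.IsLTorsion L) n (fun F hF => ?_) F hF
  have hF' := H228.IsoComp.isLTorsion_pull r L F hF
  have hF₀ := hT _ hF'
  have hc := hform _ hF'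
  refine ⟨_, (EtCoh.pullPushAdj r).unit.app F, FieldDesc621.mono_unit_of_surjective r F, ?_, ?_⟩
  · exact EtpbcB.TorsEtN.torsionN_of_epi (N := {m | EtAcyc.PrimesIn L m}) (cokernel.π _) hF₀
  · refine hp_push hP w _ n (hc.1 0 (Nat.zero_le n)) (fun q h1 hq y => ?_) (hmono _ hF')
      (fun h => hiso h _ hF') (hR _ hF')
    obtain ⟨x, rfl⟩ := (hc.1 q hq).2 y
    have : x = 0 := (hP.subsingleton_H _ q h1).elim _ _
    rw [this]
    exact map_zero (hp gP _ q)

end Square

end Groth.Agent.Etbc.H189.CoreDev
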