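import Groth.Agent.Etbc.H189.CoreDev
import Groth.Agent.Etbc.H188.BaseChangeR
import Groth.Agent.Etbc.H183.LTors

/-!
# The core comparison theorem

* `compN_zd`: over a zero-dimensional base, acyclic geometric fibres imply `CompN`.
* `core`: `g` qcqs with `n`-acyclic geometric fibres, `Y` affine, whose strict localizations have `n`-acyclic
  geometric fibres, satisfies `CompN g L n`.
* `core_succ`: `g` qcqs with `(m+1)`-acyclic geometric fibres, `Y` affine, whose strict localizations have `m`-acyclic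
  geometric fibres, satisfies `CompN g L (m + 1)`.
-/

set_option autoImplicit false
universe u
open CategoryTheory CategoryTheory.Limits AlgebraicGeometry Opposite
open Groth.Agent.Etbc.H188.ZDBase Groth.Agent.Etbc.H188 Groth.Agent.Etrest.StrictLoc

namespace Groth.Agent.Etbc.H189.CoreSucc

theorem compN_zd {P Z : Scheme.{u}} (hP : IsZD P) (p : Z ⟶ P) [QuasiCompact p] [QuasiSeparated p]
    {L : Set ℕ} {n : ℕ} (hfib : EtAcyc.GeomFibresAcyclicN L n p) : EtAcyc.CompN p L n := by
  intro F hF _
  refine FibreLemma.Hpull_bijective hP p F n fun K _ _ τ hτ q hq => ?_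
  have h1 : EtAcyc.IsAcyclicSchemeN L n (pullback p τ) :=
    GeoPt.isAcyclicSchemeN_fibre hfib (GeoPt.algPt_of_isStrictLoc hτ) (IsPullback.of_hasPullback p τ)
  have h2 : CompactSpace ↥(pullback p τ) := QuasiCompact.compactSpace_of_compactSpace (pullback.snd p τ)
  have h3 : QuasiSeparatedSpace ↥(pullback p τ) :=
    quasiSeparatedSpace_of_quasiSeparated (pullback.snd p τ)
  exact PointLemma.bijective_Hpull (pullback.snd p τ) h1 _
    (H183.LTors.isLTorsion_pull τ hF) q hq

theorem isLTorsion_push {P Y : Scheme.{u}} (r : P ⟶ Y) [QuasiCompact r] {L : Set ℕ} (E : EtCoh.Ab P)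
    (hE : EtAcyc.IsLTorsion L E) : EtAcyc.IsLTorsion L ((EtCoh.push r).obj E) :=
  H183.LTors.torsionN_push (H183.LTors.isOrd L) r E hE

theorem core_succ {X Y : Scheme.{u}} (g : X ⟶ Y) [QuasiCompact g] [QuasiSeparated g] [IsAffine Y]
    {L : Set ℕ} {m : ℕ} (hfib : EtAcyc.GeomFibresAcyclicN L (m + 1) g)
    (hloc : EtAcyc.OnStrictLocalizations g (fun _ _ h => EtAcyc.GeomFibresAcyclicN L m h)) :
    EtAcyc.CompN g L (m + 1) := by
  obtain ⟨P, r, hP, hr, hs, ha⟩ := exists_cover Y
  have h : IsPullback (pullback.snd g r) (pullback.fst g r) r g := (IsPullback.of_hasPullback g r).flip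
  have hiso : ∀ E, EtAcyc.IsLTorsion L E →
      IsIso (EtCoh.baseChange0 r g (pullback.fst g r) (pullback.snd g r) h.w E) :=
    fun E hE => BaseChangeR.isIso_baseChange0 h hP hr hloc hE
  refine CoreDev.compN_of_bc hP h.w (isLTorsion_push r)
    (compN_zd hP _ (GeoPt.geomFibres_of_isPullback (IsPullback.of_hasPullback g r) hr hfib))
    (fun E hE => ?_) (fun _ => hiso) (fun E hE q h1 h2 => ?_)
  · have := hiso E hE
    infer_instance
  · exact BaseChangeR.isZero_Rpush h hP hr hloc hE q h1 (by omega)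

theorem core {X Y : Scheme.{u}} (g : X ⟶ Y) [QuasiCompact g] [QuasiSeparated g] [IsAffine Y]
    {L : Set ℕ} {n : ℕ} (hfib : EtAcyc.GeomFibresAcyclicN L n g)
    (hloc : EtAcyc.OnStrictLocalizations g (fun _ _ h => EtAcyc.GeomFibresAcyclicN L n h)) :
    EtAcyc.CompN g L n := by
  obtain ⟨P, r, hP, hr, hs, ha⟩ := exists_cover Y
  have h : IsPullback (pullback.snd g r) (pullback.fst g r) r g := (IsPullback.of_hasPullback g r).flip
  have hiso : ∀ E, EtAcyc.IsLTorsion L E →
      IsIso (EtCoh.baseChange0 r g (pullback.fst g r) (pullback.snd g r) h.w E) :=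
    fun E hE => BaseChangeR.isIso_baseChange0 h hP hr hloc hE
  refine CoreDev.compN_of_bc hP h.w (isLTorsion_push r)
    (compN_zd hP _ (GeoPt.geomFibres_of_isPullback (IsPullback.of_hasPullback g r) hr hfib))
    (fun E hE => ?_) (fun _ => hiso) (fun E hE q h1 h2 => ?_)
  · have := hiso E hE
    infer_instance
  · exact BaseChangeR.isZero_Rpush h hP hr hloc hE q h1 (by omega)

end Groth.Agent.Etbc.H189.CoreSucc
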