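import Groth.Agent.Etbc.H189.CoreSucc
import Groth.Agent.Etbc.H189.Assembly

/-!
# S3471: local `n`-acyclicity and geometric fibres of strict localizations

* `isAcyclicN`: `g` qcqs with `n`-acyclic geometric fibres, whose strict localizations have `n`-acyclic geometric
  fibres, is `n`-acyclic.
* `main`: local `n`-acyclicity is `n`-acyclicity of the geometric fibres of all strict localizations.
-/

set_option autoImplicit false
universe u
open CategoryTheory CategoryTheory.Limits AlgebraicGeometry Opposite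
open Groth.Agent.Etbc.H188.ZDBase Groth.Agent.Etbc.H198 Groth.Agent.Etrest.StrictLoc
open Groth.Agent.Etrest.VCBaseChange Groth.Agent.Sga1.UlaSL

namespace Groth.Agent.Etbc.H189.Final

variable {X Y : Scheme.{u}}

theorem isAcyclicN {L : Set ℕ} {n : ℕ} (g : X ⟶ Y) [QuasiCompact g]
    [QuasiSeparated g] (hfib : EtAcyc.GeomFibresAcyclicN L n g)
    (hloc : EtAcyc.OnStrictLocalizations g (fun _ _ h => EtAcyc.GeomFibresAcyclicN L n h)) :
    EtAcyc.IsAcyclicN g L n := by
  refine H228.AcycIff.isAcyclicN_of_affine fun V hV => ?_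
  have sq : IsPullback (pullback.snd V.hom g) (EtAcyc.prj g V) g V.hom :=
    (IsPullback.of_hasPullback V.hom g).flip
  have : Etale V.hom := V.prop
  have : WeaklyEtale V.hom := inferInstance
  refine CoreSucc.core (EtAcyc.prj g V) ?_ ?_
  · exact FibBC.geomFibresAcyclicN_of_isPullback sq (algRes_of_weaklyEtale V.hom) hfib
  · exact WeBC.of_weaklyEtale hloc _ _ _ sq

/-- `(⇐)` -/
theorem mpr {L : Set ℕ} {n : ℕ} (g : X ⟶ Y)
    (h : EtAcyc.OnStrictLocalizations g (fun _ _ h => EtAcyc.GeomFibresAcyclicN L n h)) :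
    EtAcyc.IsLocAcyclicN g L n := by
  intro x RY RX _ _ _ _ _ _ hRY _ _ hRX _ _ hc
  refine isAcyclicN (Spec.map (CommRingCat.ofHom (algebraMap RY RX))) (h x RY RX hc) ?_
  have hσ := isStrictLoc_specOf Y (g x) RY
  have hξ := isStrictLoc_specOf X x RX
  have := weaklyEtale_of_isStrictLoc hσ
  have := weaklyEtale_of_isStrictLoc hξ
  exact WeBC.of_weaklyEtale_sq h _ _ _ ((specOf_comm g x RY RX (algebraMap RY RX)).1 hc).symm

theorem main {L : Set ℕ} (n : ℕ) (hL : ∃ ℓ ∈ L, ℓ.Prime) (g : X ⟶ Y) :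
    EtAcyc.IsLocAcyclicN g L n ↔
      EtAcyc.OnStrictLocalizations g (fun _ _ h => EtAcyc.GeomFibresAcyclicN L n h) :=
  ⟨Assembly.mp g hL, mpr g⟩

end Groth.Agent.Etbc.H189.Final
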