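import Groth.Agent.Etbc.H189.Final

/-!
# S3470: `n`-acyclicity and geometric fibres for locally `(n-1)`-acyclic morphisms

* `isAcyclicN_succ`: `g` qcqs with `(m+1)`-acyclic geometric fibres, whose strict localizations have `m`-acyclic
  geometric fibres, is `(m+1)`-acyclic.
* `main`: for `g` qcqs locally `(n-1)`-acyclic, `n ≥ 1`: `n`-acyclic iff all geometric fibres are `n`-acyclic.
-/

set_option autoImplicit false
universe u
open CategoryTheory CategoryTheory.Limits AlgebraicGeometry Opposite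
open Groth.Agent.Etbc.H188.ZDBase Groth.Agent.Etbc.H198 Groth.Agent.Etrest.StrictLoc

namespace Groth.Agent.Etbc.H189.Final2

variable {X Y : Scheme.{u}}

theorem isAcyclicN_succ {L : Set ℕ} {m : ℕ} (g : X ⟶ Y) [QuasiCompact g]
    [QuasiSeparated g] (hfib : EtAcyc.GeomFibresAcyclicN L (m + 1) g)
    (hloc : EtAcyc.OnStrictLocalizations g (fun _ _ h => EtAcyc.GeomFibresAcyclicN L m h)) :
    EtAcyc.IsAcyclicN g L (m + 1) := by
  refine H228.AcycIff.isAcyclicN_of_affine fun V hV => ?_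
  have sq : IsPullback (pullback.snd V.hom g) (EtAcyc.prj g V) g V.hom :=
    (IsPullback.of_hasPullback V.hom g).flip
  have : Etale V.hom := V.prop
  have : WeaklyEtale V.hom := inferInstance
  refine CoreSucc.core_succ (EtAcyc.prj g V) ?_ ?_
  · exact FibBC.geomFibresAcyclicN_of_isPullback sq (algRes_of_weaklyEtale V.hom) hfib
  · exact WeBC.of_weaklyEtale hloc _ _ _ sq

theorem main_succ {L : Set ℕ} (hL : ∃ ℓ ∈ L, ℓ.Prime) (m : ℕ) (g : X ⟶ Y) [QuasiCompact g]
    [QuasiSeparated g] (hloc : EtAcyc.IsLocAcyclicN g L m) :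
    EtAcyc.IsAcyclicN g L (m + 1) ↔ EtAcyc.GeomFibresAcyclicN L (m + 1) g :=
  ⟨fun h => GeomFib.geomFibresAcyclicN g hL h,
    fun h => isAcyclicN_succ g h (Assembly.mp g hL hloc)⟩

theorem main {L : Set ℕ} (hL : ∃ ℓ ∈ L, ℓ.Prime) (n : ℕ) (hn : 1 ≤ n) (g : X ⟶ Y) [QuasiCompact g]
    [QuasiSeparated g] (hloc : EtAcyc.IsLocAcyclicN g L (n - 1)) :
    EtAcyc.IsAcyclicN g L n ↔ EtAcyc.GeomFibresAcyclicN L n g := by
  obtain ⟨m, rfl⟩ : ∃ m, n = m + 1 := ⟨n - 1, by omega⟩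
  exact main_succ hL m g hloc

end Groth.Agent.Etbc.H189.Final2
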