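import Groth.Agent.Etbc.H189.SquareIff
import Groth.Agent.Etcore.HpVia
import Groth.Agent.Sga4A.IntegralSection
import Groth.Agent.S0655
import Groth.Agent.S0101
import Groth.Prelude.Def_EtAcyc

/-!
# `n`-acyclicity and base change along integral morphisms (coefficients killed by an `L`-integer)
-/

set_option autoImplicit false
universe u
open CategoryTheory CategoryTheory.Limits AlgebraicGeometry Opposite Abelian
open scoped Groth.Agent.Etcore.EtInst
open Groth.Agent.Etcore.EtInst Groth.Agent.Etcore.HpullCalc Groth.Agent.Etcore.PullCoh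
  Groth.Agent.Etcore.HpVia
open Groth.Agent

namespace Groth.Agent.Etbc.H189.IntBC

attribute [local instance] S0101.result

theorem Hpull_eq_hp {X Y : Scheme.{u}} (f : X ⟶ Y) [PreservesFiniteLimits (EtCoh.pull f)]
    (G : EtCoh.Ab Y) (n : ℕ) : EtCore.Hpull f G n = hp f G n := rfl

theorem isLTorsion_of_killedBy {X : Scheme.{u}} {L : Set ℕ} {F : EtCoh.Ab X} {m : ℕ}
    (hm : EtAcyc.PrimesIn L m) (h : EtCoh.KilledBy m F) : EtAcyc.IsLTorsion L F :=
  fun U _ x => ⟨U, 𝟙 U, m, ⟨x, rfl⟩, hm, h U _⟩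

theorem killedBy_push {X Y : Scheme.{u}} (f : X ⟶ Y) {F : EtCoh.Ab X} {m : ℕ}
    (h : EtCoh.KilledBy m F) : EtCoh.KilledBy m ((EtCoh.push f).obj F) :=
  fun U s => h ((EtCoh.bc f).obj U) s

section Iso

variable {X X' Y : Scheme.{u}} (e : X' ⟶ X) [IsIso e] (g : X ⟶ Y) (G : EtCoh.Ab Y) (n : ℕ)

omit [IsIso e] in
theorem hp_iso_comp : ⇑(hp (e ≫ g) G n) = ⇑(hpVia e g (e ≫ g) rfl G n) ∘ ⇑(hp g G n) :=
  funext fun x => (hpVia_hp e g (e ≫ g) rfl G n x).symm

theorem bijective_hpVia_of_isIso : Function.Bijective (hpVia e g (e ≫ g) rfl G n) :=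
  (bijective_hpVia_iff e g (e ≫ g) rfl G n).2 (hp_bijective_of_isIso e _ n)

theorem bijective_hp_iso_comp_iff :
    Function.Bijective (hp (e ≫ g) G n) ↔ Function.Bijective (hp g G n) := by
  rw [hp_iso_comp]
  exact Function.Bijective.of_comp_iff' (bijective_hpVia_of_isIso e g G n) _

theorem injective_hp_iso_comp_iff :
    Function.Injective (hp (e ≫ g) G n) ↔ Function.Injective (hp g G n) := by
  rw [hp_iso_comp]
  exact (bijective_hpVia_of_isIso e g G n).1.of_comp_iff _

theorem surjective_hp_iso_comp_iff :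
    Function.Surjective (hp (e ≫ g) G n) ↔ Function.Surjective (hp g G n) := by
  rw [hp_iso_comp]
  exact Function.Surjective.of_comp_iff' (bijective_hpVia_of_isIso e g G n) _

end Iso

section Square

variable {X Y T P : Scheme.{u}} (g : X ⟶ Y) (π : T ⟶ Y) [IsIntegralHom π] (a : P ⟶ X) (b : P ⟶ T)
  (hP : IsPullback a b g π) (K : EtCoh.Ab T) (n : ℕ)

include hP

theorem bijective_of_push (h : Function.Bijective (hp g ((EtCoh.push π).obj K) n)) :
    Function.Bijective (hp b K n) := by
  have i1 : IsIntegralHom a := MorphismProperty.of_isPullback (P := @IsIntegralHom) hP.flip inferInstance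
  have i2 := Sga4A.EtSplit.preservesFiniteColimits_push π
  have i3 := Sga4A.EtSplit.preservesFiniteColimits_push a
  have i4 : IsIso (EtCoh.baseChange0 π g a b hP.w.symm K) := S0655.result π g a b hP.flip K
  rw [← Hpull_eq_hp] at h ⊢
  exact ⟨SquareIff.injective_Hpull_of_push g π a b hP.w.symm K n h.1,
    SquareIff.surjective_Hpull_of_push g π a b hP.w.symm K n h.2⟩

theorem injective_of_push (h : Function.Injective (hp g ((EtCoh.push π).obj K) n)) :
    Function.Injective (hp b K n) := by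
  have i1 : IsIntegralHom a := MorphismProperty.of_isPullback (P := @IsIntegralHom) hP.flip inferInstance
  have i2 := Sga4A.EtSplit.preservesFiniteColimits_push π
  have i3 := Sga4A.EtSplit.preservesFiniteColimits_push a
  have i4 : IsIso (EtCoh.baseChange0 π g a b hP.w.symm K) := S0655.result π g a b hP.flip K
  rw [← Hpull_eq_hp] at h ⊢
  exact SquareIff.injective_Hpull_of_push g π a b hP.w.symm K n h

end Square

/-- `n`-acyclicity for `L` and base change along integral morphisms to étale schemes over the base. -/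
theorem comp_of_isAcyclicN {X Y T P : Scheme.{u}} {g : X ⟶ Y} {L : Set ℕ} {n : ℕ}
    (hg : EtAcyc.IsAcyclicN g L n) (V : Y.Etale) (π : T ⟶ V.left) [IsIntegralHom π]
    (a : P ⟶ X) (b : P ⟶ T) (hP : IsPullback a b g (π ≫ V.hom)) (K : EtCoh.Ab T) {m : ℕ}
    (hm : EtAcyc.PrimesIn L m) (hK : EtCoh.KilledBy m K) :
    (∀ q : ℕ, q ≤ n → Function.Bijective (hp b K q)) ∧ Function.Injective (hp b K (n + 1)) := by
  have w : (b ≫ π) ≫ V.hom = a ≫ g := by rw [Category.assoc]; exact hP.w.symm
  let c : P ⟶ pullback V.hom g := pullback.lift (b ≫ π) a w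
  have hc1 : c ≫ pullback.snd V.hom g = a := pullback.lift_snd _ _ _
  have hc2 : c ≫ EtAcyc.prj g V = b ≫ π := pullback.lift_fst _ _ _
  have hsq : IsPullback c b (EtAcyc.prj g V) π := by
    refine IsPullback.of_right (h₁₂ := pullback.snd V.hom g) (v₁₃ := g) (h₂₂ := V.hom) ?_ hc2
      (IsPullback.of_hasPullback V.hom g).flip
    rw [hc1]
    exact hP
  have h := hg V ((EtCoh.push π).obj K) (isLTorsion_of_killedBy hm (killedBy_push π hK))
  exact ⟨fun q hq => bijective_of_push _ π c b hsq K q (h.1 q hq),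
    injective_of_push _ π c b hsq K (n + 1) h.2⟩

end Groth.Agent.Etbc.H189.IntBC
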