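import Groth.Agent.Etbc.H189.LimHp
import Groth.Agent.Etbc.H189.IntBC
import Groth.Agent.Etbc.H189.AlgPt
import Groth.Agent.Etcore.PullbackLim

/-!
# `n`-acyclic morphisms and algebraic geometric points

`g : X ⟶ Y` quasi-compact quasi-separated and `n`-acyclic for `L`, `Ω` an algebraic extension of the residue field of
`y : Y` and `F` a sheaf on `Y` killed by an integer with prime factors in `L`.  Then the pullback maps
`H^q(Spec Ω, F) → H^q(X ×_Y Spec Ω, F)` are bijective for `q ≤ n` and injective for `q = n + 1`.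
-/

set_option autoImplicit false
universe u
open CategoryTheory CategoryTheory.Limits AlgebraicGeometry Opposite Abelian
open scoped Groth.Agent.Etcore.EtInst
open Groth.Agent.Etcore.EtInst Groth.Agent.Etcore.HpullCalc Groth.Agent.Etcore.PullCoh
  Groth.Agent.Etcore.HpVia Groth.Agent.Etcore.PullbackLim
open Groth.Agent

namespace Groth.Agent.Etbc.H189.GeomComp

attribute [local instance] S0101.result

section Stage

variable {Y : Scheme.{u}} {U : Y.Opens} (hU : IsAffineOpen U) {Ω : Type u} [Field Ω]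
  (φ : Γ(Y, U) →+* Ω)

/-- The open immersion `Spec A_s ⟶ Y`, `A = Γ(Y, U)`. -/
noncomputable def jj (s : AlgSys.Idx φ) : Spec (CommRingCat.of (Localization.Away s.1)) ⟶ Y :=
  Spec.map (CommRingCat.ofHom (algebraMap Γ(Y, U) (Localization.Away s.1))) ≫ hU.fromSpec

instance (s : AlgSys.Idx φ) : IsOpenImmersion (jj hU φ s) := by
  unfold jj
  have : IsOpenImmersion (Spec.map (CommRingCat.ofHom (algebraMap Γ(Y, U)
    (Localization.Away s.1)))) := IsOpenImmersion.of_isLocalization s.1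
  infer_instance

/-- `Spec A_s` as an object of the small étale site. -/
noncomputable def VV (s : AlgSys.Idx φ) : Y.Etale := Scheme.Etale.mk (jj hU φ s)

/-- `Spec C_s ⟶ Spec A_s`. -/
noncomputable def ps (s : AlgSys.Idx φ) :
    Spec (CommRingCat.of (AlgSys.Cs φ s)) ⟶ (VV hU φ s).left :=
  Spec.map (CommRingCat.ofHom (AlgSys.toCs φ s))

instance (s : AlgSys.Idx φ) : IsIntegralHom (ps hU φ s) := by
  unfold ps
  exact (IsIntegralHom.SpecMap_iff (φ := CommRingCat.ofHom (AlgSys.toCs φ s))).2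
    (AlgSys.isIntegral_toCs φ s)

/-- `A → C_s`. -/
noncomputable def toA (s : AlgSys.Idx φ) : Γ(Y, U) →+* AlgSys.Cs φ s :=
  (AlgSys.toCs φ s).comp (algebraMap Γ(Y, U) (Localization.Away s.1))

omit hU in
theorem subtype_toA (s : AlgSys.Idx φ) : (AlgSys.Cs φ s).subtype.comp (toA φ s) = φ := by
  rw [toA, ← RingHom.comp_assoc, AlgSys.subtype_toCs, AlgSys.psi_comp]

/-- `Spec C_s ⟶ Y`. -/
noncomputable def tb (s : AlgSys.Idx φ) : Spec (CommRingCat.of (AlgSys.Cs φ s)) ⟶ Y :=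
  ps hU φ s ≫ (VV hU φ s).hom

theorem tb_eq (s : AlgSys.Idx φ) :
    tb hU φ s = Spec.map (CommRingCat.ofHom (toA φ s)) ≫ hU.fromSpec := by
  rw [toA, CommRingCat.ofHom_comp, Spec.map_comp, Category.assoc]
  rfl

theorem map_tb {s t : AlgSys.Idx φ} (h : s ≤ t) :
    Spec.map (CommRingCat.ofHom (Subring.inclusion (AlgSys.Cs_mono φ h))) ≫ tb hU φ s =
      tb hU φ t := by
  rw [tb_eq, tb_eq, ← Category.assoc, ← Spec.map_comp, ← CommRingCat.ofHom_comp]
  have : (Subring.inclusion (AlgSys.Cs_mono φ h)).comp (toA φ s) = toA φ t := by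
    apply RingHom.ext
    intro x
    apply Subtype.val_injective
    have h1 := RingHom.congr_fun (subtype_toA φ s) x
    have h2 := RingHom.congr_fun (subtype_toA φ t) x
    exact h1.trans h2.symm
  rw [this]

theorem pt_tb (s : AlgSys.Idx φ) :
    Spec.map (CommRingCat.ofHom (AlgSys.Cs φ s).subtype) ≫ tb hU φ s =
      Spec.map (CommRingCat.ofHom φ) ≫ hU.fromSpec := by
  rw [tb_eq, ← Category.assoc, ← Spec.map_comp, ← CommRingCat.ofHom_comp, subtype_toA]

end Stage

section Main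

variable {X Y : Scheme.{u}} (g : X ⟶ Y) [QuasiCompact g] [QuasiSeparated g] {L : Set ℕ} {n : ℕ}
  (hg : EtAcyc.IsAcyclicN g L n) {U : Y.Opens} (hU : IsAffineOpen U) {Ω : Type u} [Field Ω]
  (φ : Γ(Y, U) →+* Ω) (hφ : AlgSys.IntMul φ) (F : EtCoh.Ab Y)
  {m : ℕ} (hm : EtAcyc.PrimesIn L m) (hF : ∀ {Z : Scheme.{u}} (z : Z ⟶ Y),
    EtCoh.KilledBy m ((EtCoh.pull z).obj F))

omit [QuasiCompact g] [QuasiSeparated g] in
include hg hm hF in
theorem stage (s : AlgSys.Idx φ) :
    (∀ q : ℕ, q ≤ n → Function.Bijective (hp (pullback.snd g (tb hU φ s))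
      ((EtCoh.pull (tb hU φ s)).obj F) q)) ∧
      Function.Injective (hp (pullback.snd g (tb hU φ s)) ((EtCoh.pull (tb hU φ s)).obj F) (n + 1)) :=
  IntBC.comp_of_isAcyclicN hg (VV hU φ s) (ps hU φ s) (pullback.fst g (tb hU φ s))
    (pullback.snd g (tb hU φ s)) (IsPullback.of_hasPullback g (tb hU φ s)) _ hm (hF _)

/-- The system of the `Spec C_s`. -/
noncomputable abbrev Ts : (AlgSys.Idx φ)ᵒᵖ ⥤ Scheme.{u} := specSys (AlgSys.sysR φ)

/-- The structure maps to `Y`. -/
noncomputable def tau (a : (AlgSys.Idx φ)ᵒᵖ) : (Ts φ).obj a ⟶ Y := tb hU φ a.unop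

theorem map_tau ⦃a b : (AlgSys.Idx φ)ᵒᵖ⦄ (h : a ⟶ b) : (Ts φ).map h ≫ tau hU φ b = tau hU φ a :=
  map_tb hU φ (leOfHom h.unop)

/-- The projections of the limit `Spec Ω`. -/
noncomputable def rho (a : (AlgSys.Idx φ)ᵒᵖ) : Spec (CommRingCat.of Ω) ⟶ (Ts φ).obj a :=
  Spec.map (CommRingCat.ofHom (AlgSys.Cs φ a.unop).subtype)

theorem rho_tau (a : (AlgSys.Idx φ)ᵒᵖ) :
    rho φ a ≫ tau hU φ a = Spec.map (CommRingCat.ofHom φ) ≫ hU.fromSpec :=
  pt_tb hU φ a.unop

/-- The limit cone. -/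
noncomputable def cT : Cone (Ts φ) := specCone (AlgSys.sysR φ) (AlgSys.coc φ)

include hφ in
theorem injective_lim (q : ℕ) (h : ∀ s : AlgSys.Idx φ, Function.Injective
      (hp (pullback.snd g (tb hU φ s)) ((EtCoh.pull (tb hU φ s)).obj F) q)) :
    Function.Injective (hp (pullback.snd g (Spec.map (CommRingCat.ofHom φ) ≫ hU.fromSpec))
      ((EtCoh.pull (Spec.map (CommRingCat.ofHom φ) ≫ hU.fromSpec)).obj F) q) := by
  obtain ⟨hcol⟩ := AlgSys.nonempty_isColimit φ hφ
  have hlim : IsLimit (cT φ) := isLimitSpecCone _ _ hcol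
  have haff : ∀ ⦃a b : (AlgSys.Idx φ)ᵒᵖ⦄ (h : a ⟶ b), IsAffineHom ((Ts φ).map h) :=
    fun _ _ h => isAffineHom_specSys _ h
  have hqc : ∀ a, CompactSpace ↥((Ts φ).obj a) := fun a => by
    change CompactSpace ↥(Spec _); infer_instance
  have hqs : ∀ a, QuasiSeparatedSpace ↥((Ts φ).obj a) := fun a => by
    change QuasiSeparatedSpace ↥(Spec _); infer_instance
  have hX := isLimitCone (Ts φ) (tau hU φ) (map_tau hU φ) g (cT φ)
    (Spec.map (CommRingCat.ofHom φ) ≫ hU.fromSpec) (rho_tau hU φ) hlim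
  exact LimHp.injective_of_lim (sys (Ts φ) (tau hU φ) (map_tau hU φ) g) (Ts φ)
      (fun _ _ h => isAffineHom_mapp _ _ _ g haff h) (fun a => compactSpace_obj _ _ _ g a)
      (fun a => quasiSeparatedSpace_obj _ _ _ g a) haff hqc hqs _
      (fun a => proj (Ts φ) (tau hU φ) g (cT φ) _ (rho_tau hU φ) a)
      (fun _ _ h => proj_mapp (Ts φ) (tau hU φ) (map_tau hU φ) g (cT φ) _ (rho_tau hU φ) h) hX
      (Spec (CommRingCat.of Ω)) (rho φ) (fun _ _ h => (cT φ).w h) hlim (tau hU φ) (map_tau hU φ)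
      (Spec.map (CommRingCat.ofHom φ) ≫ hU.fromSpec) (rho_tau hU φ)
      (fun a => pullback.snd g (tau hU φ a) ≫ tau hU φ a)
      (fun a b h => by
        change mapp (Ts φ) (tau hU φ) (map_tau hU φ) g h ≫ _ ≫ _ = _
        rw [mapp_snd_assoc, map_tau]
        rfl)
      _
      (fun a => by
        change proj (Ts φ) (tau hU φ) g (cT φ) _ (rho_tau hU φ) a ≫ _ ≫ _ = pullback.snd g _ ≫ _
        rw [proj_snd_assoc]
        exact congrArg (fun k => pullback.snd g _ ≫ k) (rho_tau hU φ a))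
      (fun a => pullback.snd g (tau hU φ a))
      (fun a b h => mapp_snd (Ts φ) (tau hU φ) (map_tau hU φ) g h) (fun _ => rfl)
      (pullback.snd g _)
      (fun a => (proj_snd (Ts φ) (tau hU φ) g (cT φ) _ (rho_tau hU φ) a).symm) rfl F q
      (fun a => h a.unop)

include hφ in
theorem surjective_lim (q : ℕ) (h : ∀ s : AlgSys.Idx φ, Function.Surjective
      (hp (pullback.snd g (tb hU φ s)) ((EtCoh.pull (tb hU φ s)).obj F) q)) :
    Function.Surjective (hp (pullback.snd g (Spec.map (CommRingCat.ofHom φ) ≫ hU.fromSpec))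
      ((EtCoh.pull (Spec.map (CommRingCat.ofHom φ) ≫ hU.fromSpec)).obj F) q) := by
  obtain ⟨hcol⟩ := AlgSys.nonempty_isColimit φ hφ
  have hlim : IsLimit (cT φ) := isLimitSpecCone _ _ hcol
  have haff : ∀ ⦃a b : (AlgSys.Idx φ)ᵒᵖ⦄ (h : a ⟶ b), IsAffineHom ((Ts φ).map h) :=
    fun _ _ h => isAffineHom_specSys _ h
  have hqc : ∀ a, CompactSpace ↥((Ts φ).obj a) := fun a => by
    change CompactSpace ↥(Spec _); infer_instance
  have hqs : ∀ a, QuasiSeparatedSpace ↥((Ts φ).obj a) := fun a => by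
    change QuasiSeparatedSpace ↥(Spec _); infer_instance
  have hX := isLimitCone (Ts φ) (tau hU φ) (map_tau hU φ) g (cT φ)
    (Spec.map (CommRingCat.ofHom φ) ≫ hU.fromSpec) (rho_tau hU φ) hlim
  exact LimHp.surjective_of_lim (sys (Ts φ) (tau hU φ) (map_tau hU φ) g) (Ts φ)
      (fun _ _ h => isAffineHom_mapp _ _ _ g haff h) (fun a => compactSpace_obj _ _ _ g a)
      (fun a => quasiSeparatedSpace_obj _ _ _ g a) _
      (fun a => proj (Ts φ) (tau hU φ) g (cT φ) _ (rho_tau hU φ) a)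
      (fun _ _ h => proj_mapp (Ts φ) (tau hU φ) (map_tau hU φ) g (cT φ) _ (rho_tau hU φ) h) hX
      (Spec (CommRingCat.of Ω)) (rho φ) (tau hU φ)
      (Spec.map (CommRingCat.ofHom φ) ≫ hU.fromSpec) (rho_tau hU φ)
      (fun a => pullback.snd g (tau hU φ a) ≫ tau hU φ a)
      (fun a b h => by
        change mapp (Ts φ) (tau hU φ) (map_tau hU φ) g h ≫ _ ≫ _ = _
        rw [mapp_snd_assoc, map_tau]
        rfl)
      _
      (fun a => by
        change proj (Ts φ) (tau hU φ) g (cT φ) _ (rho_tau hU φ) a ≫ _ ≫ _ = pullback.snd g _ ≫ _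
        rw [proj_snd_assoc]
        exact congrArg (fun k => pullback.snd g _ ≫ k) (rho_tau hU φ a))
      (fun a => pullback.snd g (tau hU φ a)) (fun _ => rfl)
      (pullback.snd g _)
      (fun a => (proj_snd (Ts φ) (tau hU φ) g (cT φ) _ (rho_tau hU φ) a).symm) rfl F q
      (fun a => h a.unop)

include hg hm hF hφ

theorem bijective_hp {q : ℕ} (hq : q ≤ n) :
    Function.Bijective (hp (pullback.snd g (Spec.map (CommRingCat.ofHom φ) ≫ hU.fromSpec))
      ((EtCoh.pull (Spec.map (CommRingCat.ofHom φ) ≫ hU.fromSpec)).obj F) q) :=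
  ⟨injective_lim g hU φ hφ F q fun s => ((stage g hg hU φ F hm hF s).1 q hq).1,
    surjective_lim g hU φ hφ F q fun s => ((stage g hg hU φ F hm hF s).1 q hq).2⟩

theorem injective_hp_succ :
    Function.Injective (hp (pullback.snd g (Spec.map (CommRingCat.ofHom φ) ≫ hU.fromSpec))
      ((EtCoh.pull (Spec.map (CommRingCat.ofHom φ) ≫ hU.fromSpec)).obj F) (n + 1)) :=
  injective_lim g hU φ hφ F (n + 1) fun s => (stage g hg hU φ F hm hF s).2

end Main

/-- `g` quasi-compact quasi-separated and `n`-acyclic for `L`, `F` a sheaf killed by an integer with prime factors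
in `L`: the cohomology of `F` on an algebraic geometric point and on the geometric fibre agree in
degrees `≤ n`. -/
theorem comp_geomPt {X Y : Scheme.{u}} (g : X ⟶ Y) [QuasiCompact g] [QuasiSeparated g] {L : Set ℕ}
    {n : ℕ} (hg : EtAcyc.IsAcyclicN g L n) (y : Y) (Ω : Type u) [Field Ω]
    [Algebra (Y.residueField y) Ω] [Algebra.IsAlgebraic (Y.residueField y) Ω] (F : EtCoh.Ab Y)
    {m : ℕ} (hm : EtAcyc.PrimesIn L m)
    (hF : ∀ {Z : Scheme.{u}} (z : Z ⟶ Y), EtCoh.KilledBy m ((EtCoh.pull z).obj F)) :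
    (∀ q : ℕ, q ≤ n → Function.Bijective (hp (pullback.snd g (EtAcyc.geomPt Y y Ω))
      ((EtCoh.pull (EtAcyc.geomPt Y y Ω)).obj F) q)) ∧
      Function.Injective (hp (pullback.snd g (EtAcyc.geomPt Y y Ω))
        ((EtCoh.pull (EtAcyc.geomPt Y y Ω)).obj F) (n + 1)) := by
  obtain ⟨U, hU, hy, -⟩ := exists_isAffineOpen_mem_and_subset (x := y) (U := ⊤) trivial
  have e := AlgPt.spec_phi_fromSpec hU y hy Ω
  have h1 := AlgPt.intMul_phi hU y hy Ω
  have e' : EtAcyc.geomPt Y y Ω = Spec.map (CommRingCat.ofHom (AlgPt.phi y hy Ω)) ≫ hU.fromSpec :=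
    e.symm
  rw [e']
  exact ⟨fun q hq => bijective_hp g hg hU _ h1 F hm hF hq, injective_hp_succ g hg hU _ h1 F hm hF⟩

end Groth.Agent.Etbc.H189.GeomComp
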