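import Groth.Agent.Etcore.LimH

/-!
# Surjectivity and injectivity of pullback on cohomology pass to limits

`s_a : X_a ⟶ T_a` a morphism of inverse systems of qcqs schemes with affine transition maps over `S`, with
limit `s₀ : X₀ ⟶ T₀`, and `F` a sheaf on `S`.  If `H^p(T_a, F) → H^p(X_a, F)` is surjective (injective) for
all `a` then so is `H^p(T₀, F) → H^p(X₀, F)`.
-/

set_option autoImplicit false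
universe u
open CategoryTheory CategoryTheory.Limits AlgebraicGeometry Opposite Abelian
open scoped Groth.Agent.Etcore.EtInst
open Groth.Agent.Etcore.EtInst Groth.Agent.Etcore.HpullCalc Groth.Agent.Etcore.PullCoh
  Groth.Agent.Etcore.HpVia Groth.Agent.Etcore.LimH Groth.Agent.Etcore.LimHBase
open Groth.Agent

namespace Groth.Agent.Etbc.H189.LimHp

attribute [local instance] S0101.result

section Chase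

variable {X₀ T₀ X₁ T₁ S : Scheme.{u}} (s₀ : X₀ ⟶ T₀) (s₁ : X₁ ⟶ T₁) (π : X₀ ⟶ X₁) (ρ : T₀ ⟶ T₁)
  (τ₁ : T₁ ⟶ S) (τ₀ : T₀ ⟶ S) (r₁ : X₁ ⟶ S) (r₀ : X₀ ⟶ S) (w : s₀ ≫ ρ = π ≫ s₁) (h1 : ρ ≫ τ₁ = τ₀)
  (h2 : s₁ ≫ τ₁ = r₁) (h3 : s₀ ≫ τ₀ = r₀) (h4 : π ≫ r₁ = r₀) (F : EtCoh.Ab S) (p : ℕ)

include w in
/-- compatibility of the relative pullback maps in a commutative square over `S` -/
theorem chase (x : HH T₁ ((EtCoh.pull τ₁).obj F) p) :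
    hpVia s₀ τ₀ r₀ h3 F p (hpVia ρ τ₁ τ₀ h1 F p x) =
      hpVia π r₁ r₀ h4 F p (hpVia s₁ τ₁ r₁ h2 F p x) := by
  have e1 := hpVia_hpVia s₀ ρ τ₁ (s₀ ≫ ρ) τ₀ r₀ rfl h1 h3 (by rw [Category.assoc, h1, h3]) F p x
  have e2 := hpVia_hpVia π s₁ τ₁ (s₀ ≫ ρ) r₁ r₀ w.symm h2 h4 (by rw [Category.assoc, h1, h3]) F p x
  exact e1.trans e2.symm

end Chase

variable {ι : Type u} [Preorder ι] [IsDirected ι (· ≤ ·)] [Nonempty ι]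
  (Xs Ts : ιᵒᵖ ⥤ Scheme.{u})
  (haffX : ∀ ⦃a b : ιᵒᵖ⦄ (h : a ⟶ b), IsAffineHom (Xs.map h))
  (hqcX : ∀ a, CompactSpace ↥(Xs.obj a)) (hqsX : ∀ a, QuasiSeparatedSpace ↥(Xs.obj a))
  (haffT : ∀ ⦃a b : ιᵒᵖ⦄ (h : a ⟶ b), IsAffineHom (Ts.map h))
  (hqcT : ∀ a, CompactSpace ↥(Ts.obj a)) (hqsT : ∀ a, QuasiSeparatedSpace ↥(Ts.obj a))
  (X₀ : Scheme.{u}) (π : ∀ a, X₀ ⟶ Xs.obj a)
  (wX : ∀ ⦃a b : ιᵒᵖ⦄ (h : a ⟶ b), π a ≫ Xs.map h = π b)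
  (hcX : IsLimit (mkCone Xs X₀ π wX))
  (T₀ : Scheme.{u}) (ρ : ∀ a, T₀ ⟶ Ts.obj a)
  (wT : ∀ ⦃a b : ιᵒᵖ⦄ (h : a ⟶ b), ρ a ≫ Ts.map h = ρ b)
  (hcT : IsLimit (mkCone Ts T₀ ρ wT)) {S : Scheme.{u}}
  (τ : ∀ a : ιᵒᵖ, Ts.obj a ⟶ S) (hτ : ∀ ⦃a b : ιᵒᵖ⦄ (h : a ⟶ b), Ts.map h ≫ τ b = τ a)
  (τ₀ : T₀ ⟶ S) (hτ₀ : ∀ a, ρ a ≫ τ a = τ₀)
  (r : ∀ a : ιᵒᵖ, Xs.obj a ⟶ S) (hr : ∀ ⦃a b : ιᵒᵖ⦄ (h : a ⟶ b), Xs.map h ≫ r b = r a)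
  (r₀ : X₀ ⟶ S) (hr₀ : ∀ a, π a ≫ r a = r₀)
  (s : ∀ a, Xs.obj a ⟶ Ts.obj a) (hs : ∀ ⦃a b : ιᵒᵖ⦄ (h : a ⟶ b), Xs.map h ≫ s b = s a ≫ Ts.map h)
  (hsr : ∀ a, s a ≫ τ a = r a)
  (s₀ : X₀ ⟶ T₀) (hs₀ : ∀ a, s₀ ≫ ρ a = π a ≫ s a) (hsr₀ : s₀ ≫ τ₀ = r₀)
  (F : EtCoh.Ab S) (p : ℕ)

include haffX hqcX hqsX hcX hτ₀ hr hr₀ hsr hs₀ hsr₀

theorem surjective_of_lim
    (h : ∀ a, Function.Surjective (hp (s a) ((EtCoh.pull (τ a)).obj F) p)) :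
    Function.Surjective (hp s₀ ((EtCoh.pull τ₀).obj F) p) := by
  rw [← surjective_hpVia_iff s₀ τ₀ r₀ hsr₀ F p]
  intro ξ
  obtain ⟨j, -, ξj, rfl⟩ := exists_of_limit Xs haffX hqcX hqsX X₀ π wX hcX r hr r₀ hr₀ F p
    (Classical.arbitrary ι) ξ
  obtain ⟨ηj, rfl⟩ := (surjective_hpVia_iff (s (op j)) (τ (op j)) (r (op j)) (hsr _) F p).2
    (h (op j)) ξj
  exact ⟨hpVia (ρ (op j)) (τ (op j)) τ₀ (hτ₀ _) F p ηj, chase s₀ (s (op j)) (π (op j)) (ρ (op j))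
    (τ (op j)) τ₀ (r (op j)) r₀ (hs₀ _) (hτ₀ _) (hsr _) hsr₀ (hr₀ _) F p ηj⟩

include haffT hqcT hqsT hcT hτ hs

theorem injective_of_lim
    (h : ∀ a, Function.Injective (hp (s a) ((EtCoh.pull (τ a)).obj F) p)) :
    Function.Injective (hp s₀ ((EtCoh.pull τ₀).obj F) p) := by
  rw [← injective_hpVia_iff s₀ τ₀ r₀ hsr₀ F p, injective_iff_map_eq_zero]
  intro η hη
  obtain ⟨j, -, ηj, rfl⟩ := exists_of_limit Ts haffT hqcT hqsT T₀ ρ wT hcT τ hτ τ₀ hτ₀ F p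
    (Classical.arbitrary ι) η
  have h1 := (chase s₀ (s (op j)) (π (op j)) (ρ (op j))
    (τ (op j)) τ₀ (r (op j)) r₀ (hs₀ _) (hτ₀ _) (hsr _) hsr₀ (hr₀ _) F p ηj).symm.trans hη
  obtain ⟨k, hk, h2⟩ := exists_zero_of_limit Xs haffX hqcX hqsX X₀ π wX hcX r hr r₀ hr₀ F p j _ h1
  have h3 : hpVia (Ts.map (homOfLE hk).op) (τ (op j)) (τ (op k)) (hτ _) F p ηj = 0 := by
    apply (injective_iff_map_eq_zero _).1 ((injective_hpVia_iff (s (op k)) (τ (op k)) (r (op k))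
      (hsr _) F p).2 (h (op k)))
    exact (chase (s (op k)) (s (op j)) (Xs.map (homOfLE hk).op) (Ts.map (homOfLE hk).op)
      (τ (op j)) (τ (op k)) (r (op j)) (r (op k)) (hs _).symm (hτ _) (hsr _) (hsr _) (hr _)
      F p ηj).trans h2
  have h4 := hpVia_hpVia (ρ (op k)) (Ts.map (homOfLE hk).op) (τ (op j)) (ρ (op j)) (τ (op k)) τ₀
    (wT _) (hτ _) (hτ₀ _) (hτ₀ _) F p ηj
  rw [← h4, h3, map_zero]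

end Groth.Agent.Etbc.H189.LimHp
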