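import Groth.Agent.Sga4B.HpullSquare

/-!
# `EtCore.Hpull` and squares with an exact direct image: transfer to the source of the direct image

Converse of `Sga4B.HpullSquare.surjective_Hpull_push`, `injective_Hpull_push`: for a commutative square
`h' ≫ p = p' ≫ h` with `p_*`, `p'_*` exact and the degree zero base change map for `K` an isomorphism,
injectivity / surjectivity of `Hpull h (p_* K)` implies that of `Hpull h' K`.
-/

set_option autoImplicit false

universe w₁ w₂ w₃ w₄ v₁ v₂ v₃ v₄ u₁ u₂ u₃ u₄ u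

open CategoryTheory CategoryTheory.Limits AlgebraicGeometry Opposite CategoryTheory.Abelian
open Groth.Agent.Sga4B Groth.Agent.Sga4B.HpullSquare

namespace Groth.Agent.Etbc.H189.SquareIff

section Square

open Groth.Agent.Sga4B.ExtCmp

variable {C : Type u₁} [Category.{v₁} C] [Abelian C] [HasExt.{w₁} C] [EnoughInjectives C]
variable {D : Type u₂} [Category.{v₂} D] [Abelian D] [HasExt.{w₂} D] [EnoughInjectives D]
variable {C' : Type u₃} [Category.{v₃} C'] [Abelian C'] [HasExt.{w₃} C'] [EnoughInjectives C']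
variable {D' : Type u₄} [Category.{v₄} D'] [Abelian D'] [HasExt.{w₄} D'] [EnoughInjectives D']
variable (Φ : C ⥤ D) [Φ.Additive] [PreservesFiniteLimits Φ] [PreservesFiniteColimits Φ]
variable (Φ' : C' ⥤ D') [Φ'.Additive] [PreservesFiniteLimits Φ'] [PreservesFiniteColimits Φ']
variable {L : C ⥤ C'} [L.Additive] [PreservesFiniteLimits L] [PreservesFiniteColimits L]
variable {R : C' ⥤ C} [R.Additive] [PreservesFiniteLimits R] [PreservesFiniteColimits R]
variable {L' : D ⥤ D'} [L'.Additive] [PreservesFiniteLimits L'] [PreservesFiniteColimits L']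
variable {R' : D' ⥤ D} [R'.Additive] [PreservesFiniteLimits R'] [PreservesFiniteColimits R']
variable (adj : L ⊣ R) (adj' : L' ⊣ R') (θ : Φ ⋙ L' ≅ L ⋙ Φ')

/-- Transfer of surjectivity, from the direct image to the object. -/
theorem surjective_of_square' {A : C} {B : D} (b : B ⟶ Φ.obj A) {K : C'} (n : ℕ)
    (bc : Φ.obj (R.obj K) ⟶ R'.obj (Φ'.obj K)) [IsIso bc]
    (hbc : L'.map bc ≫ adj'.counit.app (Φ'.obj K) =
      θ.hom.app (R.obj K) ≫ Φ'.map (adj.counit.app K))
    (h : Function.Surjective (cmp Φ b (R.obj K) n)) :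
    Function.Surjective
      (cmp Φ' (L'.map b ≫ θ.hom.app A : L'.obj B ⟶ Φ'.obj (L.obj A)) K n) := by
  intro y
  obtain ⟨y', rfl⟩ := (Etcore.ExtAdj.extAdj adj' B (Φ'.obj K) n).symm.surjective y
  obtain ⟨y'', rfl⟩ := (bijective_comp_mk₀ bc n).2 y'
  obtain ⟨x, rfl⟩ := h y''
  exact ⟨Etcore.ExtAdj.extAdjInv adj A K n x,
    (extAdjInv_cmp Φ Φ' adj adj' θ b n bc hbc x).symm⟩

/-- Transfer of injectivity, from the direct image to the object. -/
theorem injective_of_square' {A : C} {B : D} (b : B ⟶ Φ.obj A) {K : C'} (n : ℕ)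
    (bc : Φ.obj (R.obj K) ⟶ R'.obj (Φ'.obj K)) [IsIso bc]
    (hbc : L'.map bc ≫ adj'.counit.app (Φ'.obj K) =
      θ.hom.app (R.obj K) ≫ Φ'.map (adj.counit.app K))
    (h : Function.Injective (cmp Φ b (R.obj K) n)) :
    Function.Injective
      (cmp Φ' (L'.map b ≫ θ.hom.app A : L'.obj B ⟶ Φ'.obj (L.obj A)) K n) := by
  rw [injective_iff_map_eq_zero]
  intro x hx
  obtain ⟨x', rfl⟩ := (Etcore.ExtAdj.extAdj adj A K n).symm.surjective x
  have h1 : Etcore.ExtAdj.extAdjInv adj' B (Φ'.obj K) n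
      ((cmp Φ b (R.obj K) n x').comp (Ext.mk₀ bc) (add_zero n)) = 0 :=
    (extAdjInv_cmp Φ Φ' adj adj' θ b n bc hbc x').trans hx
  have h2 : (cmp Φ b (R.obj K) n x').comp (Ext.mk₀ bc) (add_zero n) = 0 := by
    apply (Etcore.ExtAdj.extAdj adj' B (Φ'.obj K) n).symm.injective
    exact h1.trans (map_zero _).symm
  have h3 : cmp Φ b (R.obj K) n x' = 0 := by
    apply (bijective_comp_mk₀ bc n).1
    change (cmp Φ b (R.obj K) n x').comp (Ext.mk₀ bc) (add_zero n) =
      Ext.comp 0 (Ext.mk₀ bc) (add_zero n)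
    rw [h2, Ext.zero_comp]
  have h4 : x' = 0 := (injective_iff_map_eq_zero _).1 h _ h3
  rw [h4]
  exact map_zero _

end Square

section Transfer

variable {X Y X' Y' : Scheme.{u}} (h : Y ⟶ X) (p : X' ⟶ X) (p' : Y' ⟶ Y) (h' : Y' ⟶ X')
  (w : h' ≫ p = p' ≫ h)
  [PreservesFiniteLimits (EtCoh.pull h)] [PreservesFiniteLimits (EtCoh.pull h')]
  [PreservesFiniteLimits (EtCoh.pull p)] [PreservesFiniteLimits (EtCoh.pull p')]
  [PreservesFiniteColimits (EtCoh.push p)] [PreservesFiniteColimits (EtCoh.push p')]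
  (K : EtCoh.Ab X')

include p' w in
theorem surjective_Hpull_of_push [IsIso (EtCoh.baseChange0 p h p' h' w K)] (n : ℕ)
    (hs : Function.Surjective (EtCore.Hpull h ((EtCoh.push p).obj K) n)) :
    Function.Surjective (EtCore.Hpull h' K n) := by
  rw [Hpull_eq_cmp] at hs ⊢
  exact ExtCmp.surjective_change (EtCoh.pull h') (baseMap h p p' h' w) (EtCore.pullConst h' ℤ).inv
    (EtCore.pullConst p ℤ).inv K n
    (surjective_of_square' (EtCoh.pull h) (EtCoh.pull h') (EtCoh.pullPushAdj p)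
      (EtCoh.pullPushAdj p') (pullSquare h p p' h' w) (EtCore.pullConst h ℤ).inv n
      (EtCoh.baseChange0 p h p' h' w K) (map_baseChange0_counit h p p' h' w K) hs)

include p' w in
theorem injective_Hpull_of_push [IsIso (EtCoh.baseChange0 p h p' h' w K)] (n : ℕ)
    (hs : Function.Injective (EtCore.Hpull h ((EtCoh.push p).obj K) n)) :
    Function.Injective (EtCore.Hpull h' K n) := by
  rw [Hpull_eq_cmp] at hs ⊢
  exact ExtCmp.injective_change (EtCoh.pull h') (baseMap h p p' h' w) (EtCore.pullConst h' ℤ).inv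
    (EtCore.pullConst p ℤ).inv K n
    (injective_of_square' (EtCoh.pull h) (EtCoh.pull h') (EtCoh.pullPushAdj p)
      (EtCoh.pullPushAdj p') (pullSquare h p p' h' w) (EtCore.pullConst h ℤ).inv n
      (EtCoh.baseChange0 p h p' h' w K) (map_baseChange0_counit h p p' h' w K) hs)

end Transfer

end Groth.Agent.Etbc.H189.SquareIff
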